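import Groth.Agent.VarietyB.PullSec
import Mathlib.LinearAlgebra.TensorProduct.Pi
import Mathlib.RingTheory.Flat.Basic

/-!
# Separating families of homomorphisms of quasi-coherent modules

* `Sep u` : a section of `F` over an open subset killed by all `u i : F ⟶ G i` is zero.
* `sep_of_basis` : it is enough to look at a basis of open subsets.
* `secInj_pullback_iff` : for affine opens `U` of `X` and `V ≤ g ⁻¹ U`, the injectivity over `V` of the family of
  pullbacks is the injectivity of `Γ(V) ⊗ Γ(F, U) → ∏ Γ(V) ⊗ Γ(G i, U)`.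
-/

set_option autoImplicit false
universe u
open CategoryTheory CategoryTheory.Limits AlgebraicGeometry Opposite TopologicalSpace
open scoped TensorProduct

namespace K130.SepBasic

open Groth.Agent

variable {X Y : Scheme.{u}}

/-- The family `u i : F ⟶ G i` is injective on sections over `V`. -/
def SecInj {F : X.Modules} {ι : Type u} {G : ι → X.Modules} (u : ∀ i, F ⟶ G i) (V : X.Opens) : Prop :=
  ∀ t : ↑(F.presheaf.obj (op V)), (∀ i, (Scheme.Modules.Hom.mapPresheaf (u i)).app (op V) t = 0) → t = 0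

theorem secInj_of_basis {F : X.Modules} {ι : Type u} {G : ι → X.Modules} (u : ∀ i, F ⟶ G i)
    (B : Set X.Opens) (hB : ∀ (V : X.Opens) (x : X), x ∈ V → ∃ W ∈ B, x ∈ W ∧ W ≤ V)
    (h : ∀ W ∈ B, SecInj u W) (V : X.Opens) : SecInj u V := by
  intro t ht
  have hs : TopCat.Presheaf.IsSheaf F.presheaf := F.isSheaf
  refine TopCat.Presheaf.section_ext ⟨F.presheaf, hs⟩ V t 0 ?_
  intro x hx
  obtain ⟨W, hW, hxW, hWV⟩ := hB V x hx
  have h1 : F.presheaf.map (homOfLE hWV).op t = 0 := by
    refine h W hW _ fun i => ?_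
    have h2 := congr($((Scheme.Modules.Hom.mapPresheaf (u i)).naturality (homOfLE hWV).op) t)
    have h3 : (Scheme.Modules.Hom.mapPresheaf (u i)).app (op W) (F.presheaf.map (homOfLE hWV).op t) =
      (G i).presheaf.map (homOfLE hWV).op ((Scheme.Modules.Hom.mapPresheaf (u i)).app (op V) t) := h2
    rw [h3, ht i]
    exact map_zero ((G i).presheaf.map (homOfLE hWV).op).hom
  have h4 := TopCat.Presheaf.germ_res_apply F.presheaf (homOfLE hWV) x hxW t
  change F.presheaf.germ V x hx t = F.presheaf.germ V x hx 0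
  rw [← h4, h1, map_zero, map_zero]

section Pullback

open VarietyB.PullSec

variable (g : Y ⟶ X) {U : X.Opens} {V : Y.Opens} (e : V ≤ g ⁻¹ᵁ U)

theorem app_sec {M N : X.Modules} (u : M ⟶ N) (s : Γ(M, U)) :
    ((Scheme.Modules.pullback g).map u).app V (sec g M e s) = sec g N e (u.app U s) := by
  rw [sec_apply, sec_apply]
  have h1 := congr($((Scheme.Modules.Hom.mapPresheaf ((Scheme.Modules.pullback g).map u)).naturality
    (homOfLE e).op) (((Scheme.Modules.pullbackPushforwardAdjunction g).unit.app M).app U s))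
  refine h1.trans ?_
  refine congrArg (((Scheme.Modules.pullback g).obj N).presheaf.map (homOfLE e).op) ?_
  have h2 := (Scheme.Modules.pullbackPushforwardAdjunction g).unit.naturality u
  have h3 := congr((Scheme.Modules.Hom.app $h2 U) s)
  exact h3.symm

/-- The `Γ(X, U)`-linear map on sections over `U`. -/
noncomputable def appₗ {M N : X.Modules} (u : M ⟶ N) (U : X.Opens) : Γ(M, U) →ₗ[Γ(X, U)] Γ(N, U) where
  toFun := u.app U
  map_add' := map_add _
  map_smul' := fun a s => Scheme.Modules.Hom.app_smul u a s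

/-- Injectivity over `V` of the family of pullbacks, in terms of sections downstairs. -/
theorem secInj_pullback_iff {F : X.Modules} (hF : Coh.IsQCoh F) {ι : Type u} {G : ι → X.Modules}
    (hG : ∀ i, Coh.IsQCoh (G i)) (u : ∀ i, F ⟶ G i) (hU : IsAffineOpen U) (hV : IsAffineOpen V) :
    letI : Algebra Γ(X, U) Γ(Y, V) := (g.appLE U V e).hom.toAlgebra
    SecInj (fun i => (Scheme.Modules.pullback g).map (u i)) V ↔
      ∀ t : Γ(Y, V) ⊗[Γ(X, U)] Γ(F, U),
        (∀ i, (appₗ (u i) U).lTensor Γ(Y, V) t = 0) → t = 0 := by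
  let j1 : Algebra Γ(X, U) Γ(Y, V) := (g.appLE U V e).hom.toAlgebra
  have key : ∀ (M : X.Modules) (hM : Coh.IsQCoh M), ∃ E : (Γ(Y, V) ⊗[Γ(X, U)] Γ(M, U)) ≃+
      Γ((Scheme.Modules.pullback g).obj M, V), ∀ (b : Γ(Y, V)) (s : Γ(M, U)),
        E (b ⊗ₜ s) = b • sec g M e s := by
    intro M hM
    let j2 := secModule g M e
    have j3 : IsScalarTower Γ(X, U) Γ(Y, V) Γ((Scheme.Modules.pullback g).obj M, V) :=
      ⟨fun a b c => by rw [Algebra.smul_def, mul_smul]; rfl⟩
    have h := isBaseChange_secₗ g M e hM hU hV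
    exact ⟨h.equiv.toAddEquiv, fun b s => h.equiv_tmul b s⟩
  obtain ⟨EF, hEF⟩ := key F hF
  choose EG hEG using fun i => key (G i) (hG i)
  have comm : ∀ i (t : Γ(Y, V) ⊗[Γ(X, U)] Γ(F, U)),
      ((Scheme.Modules.pullback g).map (u i)).app V (EF t) =
        EG i ((appₗ (u i) U).lTensor Γ(Y, V) t) := by
    intro i t
    induction t with
    | zero => simp
    | add x y hx hy => rw [map_add, map_add, map_add, map_add, hx, hy]
    | tmul b s =>
      rw [hEF, LinearMap.lTensor_tmul, hEG, Scheme.Modules.Hom.app_smul, app_sec]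
      rfl
  constructor
  · intro h t ht
    apply EF.injective
    rw [map_zero]
    refine h _ fun i => ?_
    refine (comm i t).trans ?_
    rw [ht i, map_zero]
  · intro h t ht
    obtain ⟨t, rfl⟩ := EF.surjective t
    rw [h t ?_, map_zero]
    intro i
    apply (EG i).injective
    rw [← comm i t, map_zero]
    exact ht i

/-- The affine opens of `Y` lying over an affine open of `X` form a basis. -/
theorem secInj_of_affine_over (g : Y ⟶ X) {F : Y.Modules} {ι : Type u} {G : ι → Y.Modules}
    (u : ∀ i, F ⟶ G i)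
    (h : ∀ (U : X.Opens) (V : Y.Opens), IsAffineOpen U → IsAffineOpen V → V ≤ g ⁻¹ᵁ U → SecInj u V)
    (W : Y.Opens) : SecInj u W := by
  refine secInj_of_basis u {V | IsAffineOpen V ∧ ∃ U : X.Opens, IsAffineOpen U ∧ V ≤ g ⁻¹ᵁ U} ?_ ?_ W
  · intro V x hx
    obtain ⟨U, hU, hxU, -⟩ := exists_isAffineOpen_mem_and_subset (X := X) (x := g x) (U := ⊤) trivial
    obtain ⟨V', hV', hxV', hle⟩ := exists_isAffineOpen_mem_and_subset (X := Y) (x := x)
      (U := V ⊓ g ⁻¹ᵁ U) ⟨hx, hxU⟩
    exact ⟨V', ⟨hV', U, hU, hle.trans inf_le_right⟩, hxV', hle.trans inf_le_left⟩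
  · rintro V ⟨hV, U, hU, e⟩
    exact h U V hU hV e

end Pullback

section Algebra

variable {A B M : Type u} [CommRing A] [CommRing B] [Algebra A B] [AddCommGroup M] [Module A M]
  {ι : Type u} {N : ι → Type u} [∀ i, AddCommGroup (N i)] [∀ i, Module A (N i)]

/-- A finite jointly injective family stays jointly injective after a flat base change. -/
theorem lTensor_joint_injective_of_finite [Finite ι] [Module.Flat A B] (u : ∀ i, M →ₗ[A] N i)
    (h : ∀ m, (∀ i, u i m = 0) → m = 0) (t : B ⊗[A] M) (ht : ∀ i, (u i).lTensor B t = 0) : t = 0 := by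
  classical
  have := Fintype.ofFinite ι
  have hinj : Function.Injective (LinearMap.pi u) := by
    rw [injective_iff_map_eq_zero]
    intro m hm
    exact h m fun i => congrFun hm i
  have hinj2 := Module.Flat.lTensor_preserves_injective_linearMap (M := B) (LinearMap.pi u) hinj
  rw [injective_iff_map_eq_zero] at hinj2
  apply hinj2
  apply (TensorProduct.piRight A A B N).injective
  rw [map_zero]
  ext i
  rw [Pi.zero_apply, ← ht i]
  clear ht
  induction t with
  | zero => simp
  | add x y hx hy => rw [map_add, map_add, Pi.add_apply, hx, hy, map_add]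
  | tmul b s => simp

end Algebra

end K130.SepBasic
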