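import Groth.Agent.SDiv.K471.StalkPrimes
import Groth.Agent.Fdesc.FinStalk
import Groth.Agent.S2085

/-!
# Points on no embedded associated cycle, and `(S_1)` of the stalk

* `forall_ass_iff_hasSk_one`: `X` locally Noetherian, `F` quasi-coherent of finite type: the associated points of `F` which
  specialize to `x` are all maximal among the associated points iff the stalk `F_x` satisfies `(S_1)`.
-/

set_option autoImplicit false
universe u
open CategoryTheory AlgebraicGeometry TopologicalSpace

namespace K130.EmbAss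

open Groth.Agent K471.StalkPrimes

theorem forall_ass_iff_hasSk_one {X : Scheme.{u}} [IsLocallyNoetherian X] (F : X.Modules) (hF : Coh.IsCoh F) (x : X) :
    (∀ z ∈ AssSch.Ass F, x ∈ closure {z} → ∀ z' ∈ AssSch.Ass F, z ∈ closure {z'} → z' = z) ↔
      LocCoh.HasSk 1 (X.presheaf.stalk x) (F.presheaf.stalk x) := by
  have hfin : Module.Finite (X.presheaf.stalk x) (F.presheaf.stalk x) :=
    Fdesc.FinStalk.finite_stalk_of_isCoh F hF x
  rw [← Groth.Agent.S2085.result]
  obtain ⟨_, ⟨U, hU, rfl⟩, hxU, -⟩ :=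
    X.isBasis_affineOpens.exists_subset_of_mem_open (Set.mem_univ x) isOpen_univ
  have hxU' : x ∈ U := hxU
  constructor
  · intro h p hp
    have hpp : p.IsPrime := hp.isPrime
    have hle : Module.annihilator (X.presheaf.stalk x) (F.presheaf.stalk x) ≤ p := by
      rw [← Submodule.annihilator_top]
      exact hp.annihilator_le
    obtain ⟨q, hq, hqp⟩ := Ideal.exists_minimalPrimes_le hle
    have hq' : q ∈ associatedPrimes (X.presheaf.stalk x) (F.presheaf.stalk x) :=
      Module.associatedPrimes.minimalPrimes_annihilator_subset_associatedPrimes _ _ hq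
    have hqq : q.IsPrime := hq'.isPrime
    obtain ⟨z, hz, hzx, hzb⟩ := exists_point_of_prime hU hxU' ⟨p, hpp⟩
    obtain ⟨z', hz', hzx', hzb'⟩ := exists_point_of_prime hU hxU' ⟨q, hqq⟩
    have h1 := (isAssPoint_iff hU hxU' hF.1 hz _ hzb).mpr hp
    have h2 := (isAssPoint_iff hU hxU' hF.1 hz' _ hzb').mpr hq'
    have h3 : z' ⤳ z := by
      rw [Fdesc.AssPoints.specializes_iff hU z' z hz' hz]
      change hU.primeIdealOf ⟨z', hz'⟩ ≤ hU.primeIdealOf ⟨z, hz⟩
      rw [← hzb, ← hzb']
      exact Ideal.comap_mono hqp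
    have h4 := h z h1 (specializes_iff_mem_closure.mp hzx) z' h2 (specializes_iff_mem_closure.mp h3)
    subst h4
    have h5 : (⟨q, hqq⟩ : PrimeSpectrum (X.presheaf.stalk x)) = ⟨p, hpp⟩ := by
      apply below_injective hU hxU'
      rw [hzb, hzb']
    rw [show p = q from (congrArg PrimeSpectrum.asIdeal h5).symm]
    exact hq
  · intro h z hz hzx z' hz' hzz'
    have hzx1 : z ⤳ x := specializes_iff_mem_closure.mpr hzx
    have hzz1 : z' ⤳ z := specializes_iff_mem_closure.mpr hzz'
    obtain ⟨hzU, Q, hQ⟩ := exists_prime_of_specializes hU hxU' hzx1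
    obtain ⟨hzU', Q', hQ'⟩ := exists_prime_of_specializes hU hxU' (hzz1.trans hzx1)
    have h1 := (isAssPoint_iff hU hxU' hF.1 hzU Q hQ).mp hz
    have h2 := (isAssPoint_iff hU hxU' hF.1 hzU' Q' hQ').mp hz'
    have h3 : Q' ≤ Q := by
      obtain ⟨Q'', hQ''⟩ := exists_prime_of_specializes hU hzU hzz1
      have h4 : below hxU' Q' ≤ below hxU' Q := by
        rw [hQ, hQ']
        exact (Fdesc.AssPoints.specializes_iff hU z' z hzU' hzU).mp hzz1
      let : Algebra Γ(X, U) (X.presheaf.stalk x) :=
        TopCat.Presheaf.algebra_section_stalk X.presheaf ⟨x, hxU'⟩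
      have := hU.isLocalization_stalk ⟨x, hxU'⟩
      have h5 := IsLocalization.map_under (hU.primeIdealOf ⟨x, hxU'⟩).asIdeal.primeCompl (X.presheaf.stalk x) Q.asIdeal
      have h6 := IsLocalization.map_under (hU.primeIdealOf ⟨x, hxU'⟩).asIdeal.primeCompl (X.presheaf.stalk x) Q'.asIdeal
      change Q'.asIdeal ≤ Q.asIdeal
      rw [← h5, ← h6]
      exact Ideal.map_mono h4
    have h7 : Q' = Q := by
      have h8 := h Q.asIdeal h1
      have hle : Module.annihilator (X.presheaf.stalk x) (F.presheaf.stalk x) ≤ Q'.asIdeal := by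
        rw [← Submodule.annihilator_top]
        exact h2.annihilator_le
      exact le_antisymm h3 (h8.2 ⟨Q'.isPrime, hle⟩ h3)
    have h9 : hU.primeIdealOf ⟨z', hzU'⟩ = hU.primeIdealOf ⟨z, hzU⟩ := by
      rw [← hQ, ← hQ', h7]
    have := congrArg hU.fromSpec h9
    rw [hU.fromSpec_primeIdealOf, hU.fromSpec_primeIdealOf] at this
    exact this

end K130.EmbAss
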