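import Groth.Agent.EGA43.K130.FibLocal
import Groth.Agent.Ega43.FibSch2
import Groth.Agent.VarietyB.PullSec
import Groth.Agent.CycB.FiberKer

/-!
# The stalks of a fibre and of a module on it, as `FibLocRing` and `FibLocMod`, up to isomorphism

* `exists_stalk_equiv`: for affine opens `U ⊆ f ⁻¹ V` and a point `x` of `U`, the local ring of the fibre through `x` at `x`
  and the stalk there of the restriction of a quasi-coherent `F` are `FibLocRing` and `FibLocMod` of `Γ(S, V) → Γ(X, U)`,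
  `Γ(F, U)`, by a ring isomorphism and a semilinear isomorphism.
* `isOpen_of_affine`: openness on `X` of a property of the fibre pair, invariant under isomorphism, from the affine case.
-/

set_option autoImplicit false
universe u

open CategoryTheory CategoryTheory.Limits AlgebraicGeometry TopologicalSpace
open IsLocalRing

namespace K130.FibSch

open Groth.Agent Ega43

variable {X S : Scheme.{u}}

theorem nonempty_algEquiv (f : X ⟶ S) {s : S} (z : f.fiber s) {V : S.Opens} (hV : IsAffineOpen V)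
    {U : X.Opens} (hU : IsAffineOpen U) (h : U ≤ f ⁻¹ᵁ V) (hz : f.fiberι s z ∈ U)
    [i1 : Algebra Γ(S, V) Γ(X, U)] (hi1 : algebraMap Γ(S, V) Γ(X, U) = (f.appLE V U h).hom) :
    letI : Algebra Γ(X, U) ((f.fiber s).presheaf.stalk z) :=
      (((f.fiberι s).stalkMap z).hom.comp (X.presheaf.germ U (f.fiberι s z) hz).hom).toAlgebra
    Nonempty (EGA4.FibLocRing Γ(S, V) Γ(X, U) (hU.primeIdealOf ⟨f.fiberι s z, hz⟩).asIdeal ≃ₐ[Γ(X, U)]
      (f.fiber s).presheaf.stalk z) := by
  let x : X := f.fiberι s z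
  let i2 : Algebra Γ(X, U) ((f.fiber s).presheaf.stalk z) :=
      (((f.fiberι s).stalkMap z).hom.comp (X.presheaf.germ U (f.fiberι s z) hz).hom).toAlgebra
  let i3 : Algebra Γ(S, V) (S.presheaf.stalk (f x)) := (S.presheaf.germ V (f x) (h hz)).hom.toAlgebra
  let i4 : Algebra Γ(X, U) (X.presheaf.stalk x) := (X.presheaf.germ U x hz).hom.toAlgebra
  have l1 : IsLocalization.AtPrime (S.presheaf.stalk (f x)) (hV.primeIdealOf ⟨f x, h hz⟩).asIdeal :=
    hV.isLocalization_stalk ⟨f x, h hz⟩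
  have l2 : IsLocalization.AtPrime (X.presheaf.stalk x) (hU.primeIdealOf ⟨x, hz⟩).asIdeal :=
    hU.isLocalization_stalk ⟨x, hz⟩
  let q := (hU.primeIdealOf ⟨x, hz⟩).asIdeal
  let E : Localization.AtPrime q ≃ₐ[Γ(X, U)] X.presheaf.stalk x :=
    IsLocalization.algEquiv q.primeCompl _ _
  let φ : X.presheaf.stalk x →ₐ[Γ(X, U)] (f.fiber s).presheaf.stalk z :=
    { ((f.fiberι s).stalkMap z).hom with commutes' := fun _ => rfl }
  have hφ : Function.Surjective φ := CycB.FiberKer.stalkMap_fiberι_surjective f s z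
  have hker : RingHom.ker φ.toRingHom = (maximalIdeal (S.presheaf.stalk (f x))).map (f.stalkMap x).hom :=
    CycB.FiberKer.ker_stalkMap_fiberι f s z
  let ψ : Localization.AtPrime q →ₐ[Γ(X, U)] (f.fiber s).presheaf.stalk z := φ.comp E.toAlgHom
  have hψ : Function.Surjective ψ := hφ.comp E.surjective
  have hpq : q.comap (algebraMap Γ(S, V) Γ(X, U)) = (hV.primeIdealOf ⟨f x, h hz⟩).asIdeal := by
    rw [hi1]
    exact congr(($(IsAffineOpen.comap_primeIdealOf_appLE V hV U hU h hz)).asIdeal)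
  have hcomm : ∀ a : Γ(S, V), (f.stalkMap x) (S.presheaf.germ V (f x) (h hz) a) =
      X.presheaf.germ U x hz (algebraMap Γ(S, V) Γ(X, U) a) := fun a => by
    rw [hi1]
    exact congr($(Groth.Agent.Ega3B.FlatSec.germ_appLE f h x hz) a)
  have hI : (q.comap (algebraMap Γ(S, V) Γ(X, U))).map (algebraMap Γ(S, V) (Localization.AtPrime q)) =
      RingHom.ker ψ.toRingHom := by
    have h1 : RingHom.ker ψ.toRingHom = (RingHom.ker φ.toRingHom).comap (E : Localization.AtPrime q →+* X.presheaf.stalk x) := by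
      ext y
      rw [RingHom.mem_ker, Ideal.mem_comap, RingHom.mem_ker]
      rfl
    have h2 : RingHom.ker φ.toRingHom = ((q.comap (algebraMap Γ(S, V) Γ(X, U))).map
        (algebraMap Γ(S, V) (Localization.AtPrime q))).map (E : Localization.AtPrime q →+* X.presheaf.stalk x) := by
      rw [hker, hpq, ← IsLocalization.AtPrime.map_eq_maximalIdeal (hV.primeIdealOf ⟨f x, h hz⟩).asIdeal
        (S.presheaf.stalk (f x)), Ideal.map_map, Ideal.map_map]
      congr 1
      ext a
      change (f.stalkMap x) (S.presheaf.germ V (f x) (h hz) a) =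
        E (algebraMap Γ(S, V) (Localization.AtPrime q) a)
      rw [hcomm, IsScalarTower.algebraMap_apply Γ(S, V) Γ(X, U) (Localization.AtPrime q), E.commutes]
      rfl
    rw [h1, h2]
    exact (Ideal.comap_map_of_bijective _ E.bijective).symm
  exact ⟨(Ideal.quotientEquivAlgOfEq Γ(X, U) hI).trans (Ideal.quotientKerAlgEquivOfSurjective hψ)⟩

theorem exists_stalk_equiv' (f : X ⟶ S) (F : X.Modules) (hF : Coh.IsQCoh F) {s : S} (z : f.fiber s)
    {V : S.Opens} (hV : IsAffineOpen V)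
    {U : X.Opens} (hU : IsAffineOpen U) (h : U ≤ f ⁻¹ᵁ V) (hz : f.fiberι s z ∈ U)
    [i1 : Algebra Γ(S, V) Γ(X, U)] (hi1 : algebraMap Γ(S, V) Γ(X, U) = (f.appLE V U h).hom) :
    ∃ (σ : EGA4.FibLocRing Γ(S, V) Γ(X, U) (hU.primeIdealOf ⟨f.fiberι s z, hz⟩).asIdeal ≃+*
        (f.fiber s).presheaf.stalk z)
      (e : EGA4.FibLocMod Γ(S, V) Γ(X, U) (hU.primeIdealOf ⟨f.fiberι s z, hz⟩).asIdeal Γ(F, U) ≃+
        ((Scheme.Modules.pullback (f.fiberι s)).obj F).presheaf.stalk z),
      ∀ r n, e (r • n) = σ r • e n := by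
  let i2 : Algebra Γ(X, U) ((f.fiber s).presheaf.stalk z) :=
      (((f.fiberι s).stalkMap z).hom.comp (X.presheaf.germ U (f.fiberι s z) hz).hom).toAlgebra
  let i3 : Module Γ(X, U) (((Scheme.Modules.pullback (f.fiberι s)).obj F).presheaf.stalk z) :=
      Module.compHom _ (((f.fiberι s).stalkMap z).hom.comp (X.presheaf.germ U (f.fiberι s z) hz).hom)
  have i4 : IsScalarTower Γ(X, U) ((f.fiber s).presheaf.stalk z)
        (((Scheme.Modules.pullback (f.fiberι s)).obj F).presheaf.stalk z) := ⟨fun a b c => by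
          rw [Algebra.smul_def, mul_smul]; rfl⟩
  obtain ⟨g, -, hg⟩ := VarietyB.PullSec.isBaseChange_can_germ (f.fiberι s) F hF hU z hz
  obtain ⟨σ⟩ := nonempty_algEquiv f z hV hU h hz hi1
  obtain ⟨e, he, -⟩ := FibLocal.exists_semilinear Γ(F, U) σ
    (FibSpec.isBaseChange_fib Γ(S, V) Γ(F, U) (hU.primeIdealOf ⟨f.fiberι s z, hz⟩).asIdeal) hg
  exact ⟨σ.toRingEquiv, e, he⟩

theorem exists_stalk_equiv (f : X ⟶ S) (F : X.Modules) (hF : Coh.IsQCoh F) (x : X)
    {V : S.Opens} (hV : IsAffineOpen V)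
    {U : X.Opens} (hU : IsAffineOpen U) (h : U ≤ f ⁻¹ᵁ V) (hx : x ∈ U)
    [i1 : Algebra Γ(S, V) Γ(X, U)] (hi1 : algebraMap Γ(S, V) Γ(X, U) = (f.appLE V U h).hom) :
    ∃ (σ : EGA4.FibLocRing Γ(S, V) Γ(X, U) (hU.primeIdealOf ⟨x, hx⟩).asIdeal ≃+*
        (f.fiber (f x)).presheaf.stalk (f.asFiber x))
      (e : EGA4.FibLocMod Γ(S, V) Γ(X, U) (hU.primeIdealOf ⟨x, hx⟩).asIdeal Γ(F, U) ≃+
        ((Scheme.Modules.pullback (f.fiberι (f x))).obj F).presheaf.stalk (f.asFiber x)),
      ∀ r n, e (r • n) = σ r • e n := by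
  have key : ∀ (y : X) (hy : y ∈ U) (_ : f.fiberι (f x) (f.asFiber x) = y),
    ∃ (σ : EGA4.FibLocRing Γ(S, V) Γ(X, U) (hU.primeIdealOf ⟨y, hy⟩).asIdeal ≃+*
        (f.fiber (f x)).presheaf.stalk (f.asFiber x))
      (e : EGA4.FibLocMod Γ(S, V) Γ(X, U) (hU.primeIdealOf ⟨y, hy⟩).asIdeal Γ(F, U) ≃+
        ((Scheme.Modules.pullback (f.fiberι (f x))).obj F).presheaf.stalk (f.asFiber x)),
      ∀ r n, e (r • n) = σ r • e n := by
    rintro y hy rfl
    exact exists_stalk_equiv' f F hF (f.asFiber x) hV hU h hy hi1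
  exact key x hx (f.fiberι_asFiber x)

/-- Openness of a property of the pair (local ring, stalk) of the fibres, from the affine case. -/
theorem isOpen_of_affine
    (P : ∀ (R : Type u) [CommRing R] (M : Type u) [AddCommGroup M] [Module R M], Prop)
    (hP : ∀ {R R' : Type u} [CommRing R] [CommRing R'] (M M' : Type u) [AddCommGroup M] [Module R M]
      [AddCommGroup M'] [Module R' M'] (σ : R ≃+* R') (e : M ≃+ M'),
      (∀ (r : R) (m : M), e (r • m) = σ r • e m) → P R M → P R' M')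
    (H : ∀ (A B M : Type u) [CommRing A] [CommRing B] [Algebra A B] [Algebra.FinitePresentation A B]
      [AddCommGroup M] [Module A M] [Module B M] [IsScalarTower A B M] [Module.FinitePresentation B M]
      [Module.Flat A M], IsOpen {q : PrimeSpectrum B |
        P (EGA4.FibLocRing A B q.asIdeal) (EGA4.FibLocMod A B q.asIdeal M)})
    (f : X ⟶ S) [LocallyOfFinitePresentation f] (F : X.Modules) (hF : CohB1.IsFP F)
    (hflat : FlatMod.IsFlatOver f F) :
    IsOpen {x : X | P ((f.fiber (f.base x)).presheaf.stalk (f.asFiber x))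
      (((Scheme.Modules.pullback (f.fiberι (f.base x))).obj F).presheaf.stalk (f.asFiber x))} := by
  have hqc := PerfC.FPSections.isQCoh_of_isFP hF
  rw [isOpen_iff_forall_mem_open]
  intro y hy
  obtain ⟨V, hV, hyV, -⟩ := exists_isAffineOpen_mem_and_subset (x := f y) (U := ⊤) trivial
  obtain ⟨U, hU, hyU, h⟩ := exists_isAffineOpen_mem_and_subset (x := y) (U := f ⁻¹ᵁ V) hyV
  let i1 : Algebra Γ(S, V) Γ(X, U) := (f.appLE V U h).hom.toAlgebra
  have hi1 : algebraMap Γ(S, V) Γ(X, U) = (f.appLE V U h).hom := rfl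
  let i2 : Module Γ(S, V) Γ(F, U) := Module.compHom Γ(F, U) (f.appLE V U h).hom
  have t1 : IsScalarTower Γ(S, V) Γ(X, U) Γ(F, U) := ⟨fun a b m => mul_smul (f.appLE V U h a) b m⟩
  have h1 : Algebra.FinitePresentation Γ(S, V) Γ(X, U) := f.finitePresentation_appLE hV hU h
  have h2 : Module.FinitePresentation Γ(X, U) Γ(F, U) :=
    Desc.FPSections.finitePresentation_sections hU hqc hF
  have h3 : Module.Flat Γ(S, V) Γ(F, U) := FibSch2.flat_sections f F hqc hflat hV hU h hi1
  have ho := H Γ(S, V) Γ(X, U) Γ(F, U)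
  have hcont : Continuous hU.primeIdealOf := hU.isoSpec.hom.continuous
  refine ⟨Subtype.val '' (hU.primeIdealOf ⁻¹' _), ?_,
    U.isOpenEmbedding'.isOpenMap _ (ho.preimage hcont), ⟨⟨y, hyU⟩, ?_, rfl⟩⟩
  · rintro _ ⟨⟨x, hx⟩, hxq, rfl⟩
    obtain ⟨σ, e, he⟩ := exists_stalk_equiv f F hqc x hV hU h hx hi1
    exact hP _ _ σ e he hxq
  · obtain ⟨σ, e, he⟩ := exists_stalk_equiv f F hqc y hV hU h hyU hi1
    refine hP _ _ σ.symm e.symm ?_ hy
    intro r m
    apply e.injective
    rw [he, AddEquiv.apply_symm_apply, AddEquiv.apply_symm_apply, RingEquiv.apply_symm_apply]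

end K130.FibSch
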