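import Groth.Agent.EGA43.K130.FibLocal
import Groth.Agent.Ega43.FibAff

/-!
# Openness of the `(S_k)` locus of the fibres of a flat finitely presented module (affine form)
-/

set_option autoImplicit false
universe u

open TensorProduct EGA4 Function

namespace K130.FibSk

open Groth.Agent Ega43 FibTransfer FibCM FibSpec K130.FibLocal

attribute [local instance] FibCM.isLocalRing_fib

/-- `min k (dim M) ≤ depth M` over a local ring. -/
def MinLeM (k : ℕ) (R : Type u) [CommRing R] [IsLocalRing R] (M : Type u) [AddCommGroup M] [Module R M] : Prop :=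
  min (k : WithBot ℕ∞) (Module.supportDim R M) ≤ ((LocCoh.depth R M : ℕ∞) : WithBot ℕ∞)

theorem minLeM_congr (k : ℕ) {R S : Type u} [CommRing R] [CommRing S] [IsLocalRing R] [IsLocalRing S]
    (M N : Type u) [AddCommGroup M] [Module R M] [AddCommGroup N] [Module S N]
    (σ : R →+* S) (hσ : Surjective σ) (e : M ≃+ N) (he : ∀ (r : R) (m : M), e (r • m) = σ r • e m) :
    MinLeM k R M ↔ MinLeM k S N := by
  unfold MinLeM
  rw [Ega4B.DepthTransfer.supportDim_eq σ e he hσ, Ega4B.DepthTransfer.depth_eq σ e he hσ]

theorem hasSk_iff_minLeM (k : ℕ) (R : Type u) [CommRing R] (M : Type u) [AddCommGroup M] [Module R M] :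
    LocCoh.HasSk k R M ↔ ∀ (p : Ideal R) [p.IsPrime],
      MinLeM k (Localization.AtPrime p) (LocalizedModule p.primeCompl M) := Iff.rfl

section Fib

variable {A B : Type u} [CommRing A] [CommRing B] [Algebra A B] (M : Type u) [AddCommGroup M] [Module B M]

theorem minLeM_loc_iff (k : ℕ) (q : Ideal B) [q.IsPrime] (t : Ideal (FibLocRing A B q)) [t.IsPrime]
    (q' : Ideal B) [q'.IsPrime] (hq' : t.comap (algebraMap B (FibLocRing A B q)) = q') :
    MinLeM k (Localization.AtPrime t) (LocalizedModule t.primeCompl (FibLocMod A B q M)) ↔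
      MinLeM k (FibLocRing A B q') (FibLocMod A B q' M) := by
  obtain ⟨σ, e, he⟩ := exists_loc_equiv A M q t q' hq'
  exact minLeM_congr k _ _ σ.toRingHom σ.surjective e he

/-- `(S_k)` for the fibre module in terms of the generizations in the fibre. -/
theorem hasSk_fib_iff (k : ℕ) (q : PrimeSpectrum B) :
    LocCoh.HasSk k (FibLocRing A B q.asIdeal) (FibLocMod A B q.asIdeal M) ↔
      ∀ q' ≤ q, PrimeSpectrum.comap (algebraMap A B) q' = PrimeSpectrum.comap (algebraMap A B) q →
        MinLeM k (FibLocRing A B q'.asIdeal) (FibLocMod A B q'.asIdeal M) := by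
  rw [hasSk_iff_minLeM]
  constructor
  · intro h q' hle hc
    let t := (orderIso A q).symm ⟨q', hle, hc⟩
    have ht : PrimeSpectrum.comap (algebraMap B (FibLocRing A B q.asIdeal)) t = q' := by
      rw [← orderIso_apply, OrderIso.apply_symm_apply]
    exact (minLeM_loc_iff M k q.asIdeal t.asIdeal q'.asIdeal
      (congrArg PrimeSpectrum.asIdeal ht)).mp (h t.asIdeal)
  · intro h t ht
    obtain ⟨hle, hc⟩ := comap_mem A q.asIdeal t
    have hprime : (t.comap (algebraMap B (FibLocRing A B q.asIdeal))).IsPrime := inferInstance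
    refine (minLeM_loc_iff M k q.asIdeal t _ rfl).mpr ?_
    exact h ⟨t.comap (algebraMap B (FibLocRing A B q.asIdeal)), hprime⟩ hle (PrimeSpectrum.ext hc)

end Fib

section Main

variable {A B : Type u} [CommRing A] [CommRing B] [Algebra A B]

/-- Data of a presentation of `B` as a quotient of a polynomial algebra, seen on the module `M`. -/
theorem exists_poly_data (M : Type u) [Algebra.FinitePresentation A B]
    [AddCommGroup M] [Module A M] [Module B M] [IsScalarTower A B M] [Module.FinitePresentation B M] :
    ∃ (N : ℕ) (_ : Algebra (MvPolynomial (Fin N) A) B) (_ : Module (MvPolynomial (Fin N) A) M),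
      IsScalarTower A (MvPolynomial (Fin N) A) B ∧ IsScalarTower (MvPolynomial (Fin N) A) B M ∧
      IsScalarTower A (MvPolynomial (Fin N) A) M ∧
      Surjective (algebraMap (MvPolynomial (Fin N) A) B) ∧
      Module.FinitePresentation (MvPolynomial (Fin N) A) M := by
  obtain ⟨N, φ, hφ, hker⟩ := FibAff.exists_poly (A := A) (B := B)
  let i1 : Algebra (MvPolynomial (Fin N) A) B := φ.toRingHom.toAlgebra
  have i2 : IsScalarTower A (MvPolynomial (Fin N) A) B :=
    IsScalarTower.of_algebraMap_eq' φ.comp_algebraMap.symm
  let i3 : Module (MvPolynomial (Fin N) A) M := Module.compHom M (algebraMap (MvPolynomial (Fin N) A) B)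
  have i4 : IsScalarTower (MvPolynomial (Fin N) A) B M := IsScalarTower.of_algebraMap_smul fun _ _ ↦ rfl
  have i5 : IsScalarTower A (MvPolynomial (Fin N) A) M := by
    refine IsScalarTower.of_algebraMap_smul fun r x ↦ ?_
    rw [← algebraMap_smul B (algebraMap A (MvPolynomial (Fin N) A) r) x,
      ← IsScalarTower.algebraMap_apply, algebraMap_smul]
  have i6 : Module.FinitePresentation (MvPolynomial (Fin N) A) B :=
    Module.finitePresentation_of_surjective (Algebra.linearMap (MvPolynomial (Fin N) A) B) hφ hker
  have i7 : Module.FinitePresentation (MvPolynomial (Fin N) A) M := .trans (MvPolynomial (Fin N) A) M B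
  exact ⟨N, i1, i3, i2, i4, i5, hφ, i7⟩

variable (M : Type u) [AddCommGroup M] [Module B M]

/-- Pointwise conditions on the generizations of a prime in its fibre descend along a surjection `P → B`,
when the condition holds off the support. -/
theorem forall_generization_iff {P : Type u} [CommRing P] [Algebra A P] [Algebra P B] [IsScalarTower A P B]
    (hs : Surjective (algebraMap P B)) [Module P M] [IsScalarTower P B M]
    [Module.Finite P M]
    (C : PrimeSpectrum B → Prop) (D : PrimeSpectrum P → Prop)
    (hCD : ∀ q', C q' ↔ D (PrimeSpectrum.comap (algebraMap P B) q'))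
    (hD : ∀ Q', Q' ∉ Module.support P M → D Q') (q : PrimeSpectrum B) :
    (∀ q' ≤ q, PrimeSpectrum.comap (algebraMap A B) q' = PrimeSpectrum.comap (algebraMap A B) q → C q') ↔
      ∀ Q' ≤ PrimeSpectrum.comap (algebraMap P B) q,
        PrimeSpectrum.comap (algebraMap A P) Q' = PrimeSpectrum.comap (algebraMap A P)
          (PrimeSpectrum.comap (algebraMap P B) q) → D Q' := by
  have hcomap : ∀ q' : PrimeSpectrum B, PrimeSpectrum.comap (algebraMap A P)
      (PrimeSpectrum.comap (algebraMap P B) q') = PrimeSpectrum.comap (algebraMap A B) q' := by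
    intro q'
    rw [← PrimeSpectrum.comap_comp_apply, ← IsScalarTower.algebraMap_eq]
  constructor
  · intro h Q' hle hc
    by_cases hQ' : Q' ∈ Module.support P M
    · have hrange : Q' ∈ Set.range (PrimeSpectrum.comap (algebraMap P B)) := by
        rw [range_comap_of_surjective _ (algebraMap P B) hs]
        rw [Module.mem_support_iff_of_finite] at hQ'
        refine le_trans ?_ hQ'
        intro x hx
        rw [Module.mem_annihilator]
        intro m
        rw [← algebraMap_smul B x m, (RingHom.mem_ker).mp hx, zero_smul]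
      obtain ⟨q', rfl⟩ := hrange
      rw [← hCD]
      rw [hcomap, hcomap] at hc
      refine h q' ?_ hc
      exact (Ideal.comap_le_comap_iff_of_surjective _ hs _ _).mp hle
    · exact hD Q' hQ'
  · intro h q' hle hc
    rw [hCD]
    refine h _ (Ideal.comap_mono hle) ?_
    rw [hcomap, hcomap, hc]

/-- Openness of the `(S_k)` locus of the fibres, affine case. -/
theorem isOpen_hasSk_mod [Algebra.FinitePresentation A B] [Module A M] [IsScalarTower A B M]
    [Module.FinitePresentation B M] [Module.Flat A M] (k : ℕ) :
    IsOpen {q : PrimeSpectrum B |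
      LocCoh.HasSk k (FibLocRing A B q.asIdeal) (FibLocMod A B q.asIdeal M)} := by
  obtain ⟨N, i1, i2, i3, i4, i5, hs, i6⟩ := exists_poly_data (A := A) (B := B) M
  have hopen := isOpen_goodK A N M (FlatKer.kerFP A (MvPolynomial (Fin N) A)) k
  have h := hopen.preimage (PrimeSpectrum.continuous_comap (algebraMap (MvPolynomial (Fin N) A) B))
  convert h using 1
  ext q
  rw [Set.mem_ofPred_eq, Set.mem_preimage, Set.mem_ofPred_eq, hasSk_fib_iff]
  refine forall_generization_iff M hs _ _ (fun q' => ?_) (fun Q' hQ' => ?_) q
  · obtain ⟨σ, e, hσ, he⟩ := exists_fib_equiv (A := A) hs M q'.asIdeal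
    exact (minLeM_congr k _ _ σ hσ e he).symm
  · by_contra hcon
    exact hQ' ((not_goodK_iff A N M k Q').mp hcon).1

end Main

end K130.FibSk
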