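import Groth.Agent.Flat2G.FlatStratAlg
import Groth.Agent.Ega4fib.H143.ConstrAlg

/-!
# Constructibility in the source of fibrewise conditions on modules, polynomial rings

A predicate `P A N M Q` on primes `Q` of `A[T_1, ..., T_N]` and modules `M` over this ring, invariant under isomorphisms
and under base change `A → C`. If the locus of `P` is constructible for `A` Noetherian and `M` finite and
flat over `A`, then it is constructible for every ring `A` and every `M` of finite presentation (`isConstructible`).
-/

set_option autoImplicit false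
universe u

open TensorProduct Topology TopologicalSpace

namespace K130.ConstrPoly

open Groth.Agent Groth.Agent.Flat2G.FlatStratAlg

attribute [local instance] MvPolynomial.algebraMvPolynomial

/-- Predicates on primes of polynomial rings and modules over them. -/
abbrev PPred : Type (u + 1) :=
  ∀ (A : Type u) [CommRing A] (N : ℕ) (M : Type u) [AddCommGroup M] [Module (MvPolynomial (Fin N) A) M],
    PrimeSpectrum (MvPolynomial (Fin N) A) → Prop

/-- Invariance under isomorphisms and base change. -/
structure Inv (P : PPred.{u}) : Prop where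
  iso : ∀ (A : Type u) [CommRing A] (N : ℕ) (M M' : Type u) [AddCommGroup M]
    [Module (MvPolynomial (Fin N) A) M] [AddCommGroup M'] [Module (MvPolynomial (Fin N) A) M']
    (_ : M ≃ₗ[MvPolynomial (Fin N) A] M') (Q : PrimeSpectrum (MvPolynomial (Fin N) A)), P A N M Q → P A N M' Q
  bc : ∀ (A C : Type u) [CommRing A] [CommRing C] [Algebra A C] (N : ℕ) (M : Type u) [AddCommGroup M]
    [Module (MvPolynomial (Fin N) A) M] [Module.Finite (MvPolynomial (Fin N) A) M]
    (Q' : PrimeSpectrum (MvPolynomial (Fin N) C)),
    P C N (MvPolynomial (Fin N) C ⊗[MvPolynomial (Fin N) A] M) Q' ↔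
      P A N M (PrimeSpectrum.comap (algebraMap (MvPolynomial (Fin N) A) (MvPolynomial (Fin N) C)) Q')

/-- The hypothesis in the flat Noetherian case. -/
def FlatCase (P : PPred.{u}) : Prop :=
  ∀ (A : Type u) [CommRing A] [IsNoetherianRing A] (N : ℕ) (M : Type u) [AddCommGroup M] [Module A M]
    [Module (MvPolynomial (Fin N) A) M] [IsScalarTower A (MvPolynomial (Fin N) A) M]
    [Module.Finite (MvPolynomial (Fin N) A) M] [Module.Flat A M],
    IsConstructible {Q : PrimeSpectrum (MvPolynomial (Fin N) A) | P A N M Q}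

section Piece

variable {A : Type u} [CommRing A] (N : ℕ)

theorem exists_lift (C : Type u) [CommRing C] [Algebra A C] (K : Type u) [Field K]
    (φ : MvPolynomial (Fin N) A →+* K) (γ : C →+* K)
    (h : γ.comp (algebraMap A C) = φ.comp (algebraMap A (MvPolynomial (Fin N) A))) :
    ∃ ψ : MvPolynomial (Fin N) C →+* K,
      ψ.comp (algebraMap (MvPolynomial (Fin N) A) (MvPolynomial (Fin N) C)) = φ := by
  refine ⟨MvPolynomial.eval₂Hom γ fun i => φ (MvPolynomial.X i), ?_⟩
  apply MvPolynomial.ringHom_ext
  · intro a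
    have h1 : (algebraMap (MvPolynomial (Fin N) A) (MvPolynomial (Fin N) C)) (MvPolynomial.C a) =
        MvPolynomial.C (algebraMap A C a) := MvPolynomial.map_C _ _
    rw [RingHom.comp_apply, h1, MvPolynomial.eval₂Hom_C]
    exact congr($h a)
  · intro i
    have h1 : (algebraMap (MvPolynomial (Fin N) A) (MvPolynomial (Fin N) C)) (MvPolynomial.X i) =
        MvPolynomial.X i := MvPolynomial.map_X _ _
    rw [RingHom.comp_apply, h1, MvPolynomial.eval₂Hom_X']

/-- The points of `Spec A[T]` over the stratum `V(I) ∩ D(h)`. -/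
theorem mem_range_iff (I : Ideal A) (h : A) (Q : PrimeSpectrum (MvPolynomial (Fin N) A)) :
    Q ∈ Set.range (PrimeSpectrum.comap (algebraMap (MvPolynomial (Fin N) A)
      (MvPolynomial (Fin N) (Localization.Away (Ideal.Quotient.mk I h))))) ↔
      I ≤ Q.asIdeal.comap (algebraMap A (MvPolynomial (Fin N) A)) ∧
        h ∉ Q.asIdeal.comap (algebraMap A (MvPolynomial (Fin N) A)) := by
  let C := Localization.Away (Ideal.Quotient.mk I h)
  constructor
  · rintro ⟨Q', rfl⟩
    have h1 : ∀ a : A, a ∈ (PrimeSpectrum.comap (algebraMap (MvPolynomial (Fin N) A)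
      (MvPolynomial (Fin N) C)) Q').asIdeal.comap (algebraMap A (MvPolynomial (Fin N) A)) ↔
        algebraMap C (MvPolynomial (Fin N) C) (algebraMap A C a) ∈ Q'.asIdeal := by
      intro a
      have : algebraMap (MvPolynomial (Fin N) A) (MvPolynomial (Fin N) C)
          (algebraMap A (MvPolynomial (Fin N) A) a) = algebraMap C (MvPolynomial (Fin N) C) (algebraMap A C a) :=
        MvPolynomial.map_C _ _
      rw [← this]
      rfl
    refine ⟨fun a ha => ?_, fun hh => ?_⟩
    · rw [h1, IsScalarTower.algebraMap_apply A (A ⧸ I) C, Ideal.Quotient.algebraMap_eq,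
        Ideal.Quotient.eq_zero_iff_mem.mpr ha, map_zero, map_zero]
      exact Ideal.zero_mem _
    · rw [h1, IsScalarTower.algebraMap_apply A (A ⧸ I) C, Ideal.Quotient.algebraMap_eq] at hh
      have hu : IsUnit (algebraMap (A ⧸ I) C (Ideal.Quotient.mk I h)) :=
        IsLocalization.Away.algebraMap_isUnit _
      exact Q'.isPrime.ne_top (Ideal.eq_top_of_isUnit_mem _ hh (hu.map _))
  · rintro ⟨hI, hh⟩
    let K := Q.asIdeal.ResidueField
    let φ : MvPolynomial (Fin N) A →+* K := algebraMap _ K
    have hφ : RingHom.ker φ = Q.asIdeal := Ideal.ker_algebraMap_residueField _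
    let γ₀ : A ⧸ I →+* K := Ideal.Quotient.lift I (φ.comp (algebraMap A (MvPolynomial (Fin N) A)))
      (fun a ha => by
        have := hI ha
        rw [Ideal.mem_comap, ← hφ] at this
        exact this)
    have hu : IsUnit (γ₀ (Ideal.Quotient.mk I h)) := by
      rw [isUnit_iff_ne_zero]
      intro h0
      apply hh
      rw [Ideal.mem_comap, ← hφ]
      exact h0
    let γ : C →+* K := IsLocalization.Away.lift (Ideal.Quotient.mk I h) hu
    obtain ⟨ψ, hψ⟩ := exists_lift N C K φ γ (by
      ext a
      rw [RingHom.comp_apply, IsScalarTower.algebraMap_apply A (A ⧸ I) C, IsLocalization.Away.lift_eq]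
      rfl)
    refine ⟨⟨RingHom.ker ψ, RingHom.ker_isPrime ψ⟩, ?_⟩
    apply PrimeSpectrum.ext
    change (RingHom.ker ψ).comap _ = _
    rw [RingHom.comap_ker, hψ, hφ]

theorem finiteType_map (C : Type u) [CommRing C] [Algebra A C] [Algebra.FiniteType A C] :
    Algebra.FiniteType (MvPolynomial (Fin N) A) (MvPolynomial (Fin N) C) :=
  Algebra.FiniteType.equiv (inferInstance : Algebra.FiniteType (MvPolynomial (Fin N) A)
    (MvPolynomial (Fin N) A ⊗[A] C)) (Algebra.IsPushout.equiv A (MvPolynomial (Fin N) A) C (MvPolynomial (Fin N) C))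

variable {P : PPred.{u}} (hP : Inv P) (hflat : FlatCase P)

include hP hflat in
theorem isConstructible_piece [IsNoetherianRing A] (I : Ideal A) (h : A) (M : Type u) [AddCommGroup M] [Module A M]
    [Module (MvPolynomial (Fin N) A) M] [IsScalarTower A (MvPolynomial (Fin N) A) M]
    [Module.Finite (MvPolynomial (Fin N) A) M] (hM : FlatOn A I (Ideal.span {h}) M) :
    IsConstructible {Q : PrimeSpectrum (MvPolynomial (Fin N) A) |
      (I ≤ Q.asIdeal.comap (algebraMap A (MvPolynomial (Fin N) A)) ∧
        h ∉ Q.asIdeal.comap (algebraMap A (MvPolynomial (Fin N) A))) ∧ P A N M Q} := by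
  let C := Localization.Away (Ideal.Quotient.mk I h)
  have hN : IsNoetherianRing C := inferInstance
  have hft : Algebra.FiniteType A C := by
    have : Algebra.FinitePresentation (A ⧸ I) C :=
      IsLocalization.Away.finitePresentation (Ideal.Quotient.mk I h)
    have : Algebra.FiniteType (A ⧸ I) C := Algebra.FiniteType.of_finitePresentation
    exact Algebra.FiniteType.trans (S := A ⧸ I) inferInstance this
  have hF : Module.Flat C (C ⊗[A] M) := by
    refine hM C ?_ ?_
    · rw [Ideal.map_eq_bot_iff_le_ker]
      intro a ha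
      rw [RingHom.mem_ker, IsScalarTower.algebraMap_apply A (A ⧸ I) C, Ideal.Quotient.algebraMap_eq,
        Ideal.Quotient.eq_zero_iff_mem.mpr ha, map_zero]
    · rw [Ideal.map_span, Set.image_singleton, Ideal.span_singleton_eq_top,
        IsScalarTower.algebraMap_apply A (A ⧸ I) C, Ideal.Quotient.algebraMap_eq]
      exact IsLocalization.Away.algebraMap_isUnit _
  let M' := MvPolynomial (Fin N) C ⊗[MvPolynomial (Fin N) A] M
  have hF' : Module.Flat C M' :=
    Module.Flat.of_linearEquiv (Algebra.IsPushout.cancelBaseChange A C (MvPolynomial (Fin N) A)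
      (MvPolynomial (Fin N) C) M)
  have h1 := hflat C N M'
  have hft' := finiteType_map (A := A) N C
  have h2 := PrimeSpectrum.isConstructible_comap_image
    (f := algebraMap (MvPolynomial (Fin N) A) (MvPolynomial (Fin N) C))
    (RingHom.finitePresentation_algebraMap.mpr (Algebra.FinitePresentation.of_finiteType.mp hft')) h1
  convert h2 using 1
  ext Q
  simp only [Set.mem_ofPred_eq, Set.mem_image]
  constructor
  · rintro ⟨hQ, hPQ⟩
    rw [← mem_range_iff] at hQ
    obtain ⟨Q', rfl⟩ := hQ
    exact ⟨Q', (hP.bc A C N M Q').mpr hPQ, rfl⟩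
  · rintro ⟨Q', hQ', rfl⟩
    refine ⟨(mem_range_iff N I h _).mp ⟨Q', rfl⟩, (hP.bc A C N M Q').mp hQ'⟩

include hP hflat in
/-- The Noetherian case. -/
theorem isConstructible_of_isNoetherianRing (A : Type u) [CommRing A] [IsNoetherianRing A] (N : ℕ)
    (M : Type u) [AddCommGroup M] [Module (MvPolynomial (Fin N) A) M]
    [Module.Finite (MvPolynomial (Fin N) A) M] :
    IsConstructible {Q : PrimeSpectrum (MvPolynomial (Fin N) A) | P A N M Q} := by
  let : Module A M := Module.compHom M (algebraMap A (MvPolynomial (Fin N) A))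
  have : IsScalarTower A (MvPolynomial (Fin N) A) M := IsScalarTower.of_algebraMap_smul fun r x => rfl
  obtain ⟨t, H, -, hlast, -, h0, hH⟩ := exists_chain_of_isNoetherianRing (A := A) (ι := Unit) (n := fun _ => N)
    (M := fun _ => M) ⊥
  choose G hG using fun i : Fin t => (IsNoetherian.noetherian (H i.succ) : (H i.succ).FG)
  have key : {Q : PrimeSpectrum (MvPolynomial (Fin N) A) | P A N M Q} =
      ⋃ i : Fin t, ⋃ h : G i, {Q : PrimeSpectrum (MvPolynomial (Fin N) A) |
        (H i.castSucc ≤ Q.asIdeal.comap (algebraMap A (MvPolynomial (Fin N) A)) ∧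
        (h : A) ∉ Q.asIdeal.comap (algebraMap A (MvPolynomial (Fin N) A))) ∧ P A N M Q} := by
    ext Q
    simp only [Set.mem_ofPred_eq, Set.mem_iUnion]
    constructor
    · intro hQ
      let p := Q.asIdeal.comap (algebraMap A (MvPolynomial (Fin N) A))
      have hp : p.IsPrime := inferInstance
      have h0' : H 0 ≤ p := h0.trans (by
        rw [hp.radical_le_iff]
        exact bot_le)
      have hl : ¬ H (Fin.last t) ≤ p := by
        rw [hlast, top_le_iff]
        exact hp.ne_top
      obtain ⟨i, hi1, hi2⟩ : ∃ i : Fin t, H i.castSucc ≤ p ∧ ¬ H i.succ ≤ p := by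
        by_contra hcon
        push Not at hcon
        have : ∀ i : Fin (t + 1), H i ≤ p := by
          intro i
          induction i using Fin.induction with
          | zero => exact h0'
          | succ i ih => exact hcon i ih
        exact hl (this _)
      rw [← hG i, Submodule.span_le, Set.not_subset] at hi2
      obtain ⟨h, hhG, hhp⟩ := hi2
      exact ⟨i, ⟨h, hhG⟩, ⟨hi1, hhp⟩, hQ⟩
    · rintro ⟨i, h, -, hQ⟩
      exact hQ
  rw [key]
  refine IsConstructible.iUnion fun i => IsConstructible.iUnion fun h => ?_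
  refine isConstructible_piece N hP hflat _ _ M ((hH i ()).mono le_rfl ?_)
  rw [Ideal.span_singleton_le_iff_mem, ← hG i]
  exact Submodule.subset_span h.2

include hP hflat in
/-- The locus of `P` is constructible for modules of finite presentation over polynomial rings. -/
theorem isConstructible (A : Type u) [CommRing A] (N : ℕ)
    (M : Type u) [AddCommGroup M] [Module (MvPolynomial (Fin N) A) M]
    [Module.FinitePresentation (MvPolynomial (Fin N) A) M] :
    IsConstructible {Q : PrimeSpectrum (MvPolynomial (Fin N) A) | P A N M Q} := by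
  obtain ⟨s, hs⟩ := exists_finset_descent (A := A) (n := N) (M := M)
  let A₀ : Subalgebra ℤ A := Algebra.adjoin ℤ (s : Set A)
  have hfg : Subalgebra.FG A₀ := ⟨_, rfl⟩
  have h1 : Algebra.FiniteType ℤ A₀ := A₀.fg_iff_finiteType.mp hfg
  have h2 : IsNoetherianRing A₀ := Algebra.FiniteType.isNoetherianRing ℤ A₀
  obtain ⟨M₀, i₁, i₂, h3, ⟨e⟩⟩ := hs A₀ Algebra.subset_adjoin
  have h4 := isConstructible_of_isNoetherianRing hP hflat A₀ N M₀
  have h5 := Ega4fib.H143.ConstrAlg.isConstructible_preimage_comap
    (algebraMap (MvPolynomial (Fin N) A₀) (MvPolynomial (Fin N) A)) h4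
  convert h5 using 1
  ext Q
  rw [Set.mem_preimage, Set.mem_ofPred_eq, Set.mem_ofPred_eq, ← hP.bc A₀ A N M₀ Q]
  exact ⟨hP.iso A N _ _ e.symm Q, hP.iso A N _ _ e Q⟩

end Piece

end K130.ConstrPoly
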