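import Groth.Agent.QGor.K967.FibBC
import Groth.Agent.Ega4A.ProjDim
import Groth.Agent.Ega4C.SkFlat

/-!
# Base change of the stalks of the fibres of a module

For a pushout square `A → B`, `A' → B'`, a prime `q'` of `B'` over `q` and a `B`-module `M`:

* `exists_data`: `FibLocRing A B q → FibLocRing A' B' q'` is faithfully flat and `FibLocMod A' B' q' (B' ⊗ M)` is the
  base change of `FibLocMod A B q M`.
* `hasPD_iff`: the projective dimensions agree.
* `mem_support_iff`: `q' ∈ Supp (B' ⊗ M) ↔ q ∈ Supp M`.
-/

set_option autoImplicit false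
universe u

open TensorProduct CategoryTheory EGA4 IsLocalRing

namespace K130.FibBCMod

open Groth.Agent

section Local

variable {A B : Type u} [CommRing A] [CommRing B] [Algebra A B] (q : Ideal B) [q.IsPrime]

theorem algebraMap_mem_maximalIdeal_iff [IsLocalRing (FibLocRing A B q)] (b : B) :
    algebraMap B (FibLocRing A B q) b ∈ maximalIdeal (FibLocRing A B q) ↔ b ∈ q := by
  let π : Localization.AtPrime q →+* FibLocRing A B q := Ideal.Quotient.mk _
  have h1 : (maximalIdeal (FibLocRing A B q)).comap π = maximalIdeal (Localization.AtPrime q) :=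
    IsLocalRing.eq_maximalIdeal (Ideal.comap_isMaximal_of_surjective π Ideal.Quotient.mk_surjective)
  rw [← IsLocalization.AtPrime.to_map_mem_maximal_iff (Localization.AtPrime q) q b, ← h1, Ideal.mem_comap]
  rfl

theorem exists_mul_eq (r : FibLocRing A B q) : ∃ b s : B, s ∉ q ∧
    r * algebraMap B (FibLocRing A B q) s = algebraMap B (FibLocRing A B q) b := by
  obtain ⟨x, rfl⟩ := Ideal.Quotient.mk_surjective r
  obtain ⟨⟨b, s⟩, hs⟩ := IsLocalization.surj q.primeCompl x
  exact ⟨b, s, s.2, congrArg (Ideal.Quotient.mk _) hs⟩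

end Local

variable (A B A' B' : Type u) [CommRing A] [CommRing B] [CommRing A'] [CommRing B']
  [Algebra A B] [Algebra A A'] [Algebra B B'] [Algebra A' B'] [Algebra A B']
  [IsScalarTower A B B'] [IsScalarTower A A' B'] [Algebra.IsPushout A B A' B']
  (M : Type u) [AddCommGroup M] [Module B M]

theorem exists_data (q' : Ideal B') [q'.IsPrime] :
    ∃ (_ : Algebra (FibLocRing A B (q'.comap (algebraMap B B'))) (FibLocRing A' B' q')),
      Module.FaithfullyFlat (FibLocRing A B (q'.comap (algebraMap B B'))) (FibLocRing A' B' q') ∧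
      Nonempty (FibLocRing A' B' q' ⊗[FibLocRing A B (q'.comap (algebraMap B B'))]
        FibLocMod A B (q'.comap (algebraMap B B')) M ≃ₗ[FibLocRing A' B' q']
          FibLocMod A' B' q' (B' ⊗[B] M)) := by
  obtain ⟨φ, hφ, hφ'⟩ := K967.FibBC.exists_flat A B A' B' q'
  set q : Ideal B := q'.comap (algebraMap B B') with hq
  let R := FibLocRing A B q
  let S := FibLocRing A' B' q'
  let : Algebra R S := φ.toAlgebra
  have hflat : Module.Flat R S := hφ
  have htow : IsScalarTower B R S :=
    IsScalarTower.of_algebraMap_eq (R := B) (S := R) (A := S) fun b => by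
      refine Eq.trans ?_ (hφ' b).symm
      exact IsScalarTower.algebraMap_apply B B' S b
  have h1 := Groth.Agent.Ega43.FibSpec.isBaseChange_fib A M q
  have h2 := (TensorProduct.isBaseChange B M B').comp
    (Groth.Agent.Ega43.FibSpec.isBaseChange_fib A' (B' ⊗[B] M) q')
  let e : S ⊗[R] (FibLocMod A B q M) ≃ₗ[S] FibLocMod A' B' q' (B' ⊗[B] M) :=
    (TensorProduct.AlgebraTensorModule.congr (LinearEquiv.refl S S) h1.equiv.symm).trans
      ((TensorProduct.AlgebraTensorModule.cancelBaseChange B R S S M).trans h2.equiv)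
  have l1 : IsLocalRing R := Ega4C.SkFlat.isLocalRing_fibLocRing (B := A) q
  have l2 : IsLocalRing S := Ega4C.SkFlat.isLocalRing_fibLocRing (B := A') q'
  have hloc : IsLocalHom (algebraMap R S) := by
    refine ⟨fun r hr => ?_⟩
    obtain ⟨b, s, hs, hbs⟩ := exists_mul_eq (A := A) q r
    have hsu : IsUnit (algebraMap B R s) := by
      by_contra h
      exact hs ((algebraMap_mem_maximalIdeal_iff q s).mp ((mem_maximalIdeal _).mpr h))
    have h3 : IsUnit (algebraMap B' S (algebraMap B B' b)) := by
      rw [← hφ' b]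
      change IsUnit (algebraMap R S (algebraMap B R b))
      rw [← hbs, map_mul]
      exact hr.mul (hsu.map _)
    have h4 : b ∉ q := by
      intro hb
      exact (mem_maximalIdeal _).mp ((algebraMap_mem_maximalIdeal_iff (A := A') q' (algebraMap B B' b)).mpr hb) h3
    have h5 : IsUnit (algebraMap B R b) := by
      by_contra h
      exact h4 ((algebraMap_mem_maximalIdeal_iff q b).mp ((mem_maximalIdeal _).mpr h))
    rw [← hbs] at h5
    exact isUnit_of_mul_isUnit_left h5
  exact ⟨inferInstance, Module.FaithfullyFlat.of_flat_of_isLocalHom, ⟨e⟩⟩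

theorem hasPD_iff (q' : Ideal B') [q'.IsPrime] [Module.Finite B M]
    [IsNoetherianRing (FibLocRing A B (q'.comap (algebraMap B B')))] (n : ℕ) :
    HasProjectiveDimensionLE (ModuleCat.of (FibLocRing A' B' q') (FibLocMod A' B' q' (B' ⊗[B] M))) n ↔
      HasProjectiveDimensionLE (ModuleCat.of (FibLocRing A B (q'.comap (algebraMap B B')))
        (FibLocMod A B (q'.comap (algebraMap B B')) M)) n := by
  obtain ⟨i, hff, ⟨e⟩⟩ := exists_data A B A' B' M q'
  constructor
  · intro h
    refine Ega4A.ProjDim.hasPDLT_of_baseChange _ (FibLocRing A' B' q') (n + 1) _ ?_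
    exact hasProjectiveDimensionLT_of_iso e.symm.toModuleIso (n + 1)
  · intro h
    have := Ega4A.ProjDim.hasPDLT_baseChange _ (FibLocRing A' B' q') (n + 1) _ h
    exact hasProjectiveDimensionLT_of_iso e.toModuleIso (n + 1)

end K130.FibBCMod
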