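import Groth.Agent.EGA43.K130.FibSk
import Groth.Agent.S2085
import Groth.Agent.Ega4B.DepthFinite
import Mathlib.RingTheory.Ideal.MinimalPrime.Localization

/-!
# Openness of the locus where the fibres are equidimensional and `(S_k)`, `k ≥ 1` (affine form)
-/

set_option autoImplicit false
universe u

open TensorProduct EGA4 Function CategoryTheory

namespace K130.FibEquidim

open Groth.Agent Ega43 FibTransfer FibCM FibSpec FibChev FibPd K130.FibLocal K130.FibSk

attribute [local instance] FibCM.isLocalRing_fib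

/-- Height condition at a local ring: nonzero modules live in codimension at least `c`, and depth zero only occurs
in codimension `c`. -/
def D (c : ℕ) (R : Type u) [CommRing R] [IsLocalRing R] (M : Type u) [AddCommGroup M] [Module R M] : Prop :=
  (Nontrivial M → (c : WithBot ℕ∞) ≤ ringKrullDim R) ∧ (1 ≤ LocCoh.depth R M ∨ ringKrullDim R = c)

theorem D_congr (c : ℕ) {R S : Type u} [CommRing R] [CommRing S] [IsLocalRing R] [IsLocalRing S]
    (M N : Type u) [AddCommGroup M] [Module R M] [AddCommGroup N] [Module S N]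
    (σ : R ≃+* S) (e : M ≃+ N) (he : ∀ (r : R) (m : M), e (r • m) = σ r • e m) :
    D c R M ↔ D c S N := by
  unfold D
  rw [ringKrullDim_eq_of_ringEquiv σ, e.toEquiv.nontrivial_congr,
    Ega4B.DepthTransfer.depth_eq σ.toRingHom e he σ.surjective]

/-- In a local ring of the fibre at `q`, localizing the fibre module at all primes amounts to looking at all
generizations of `q` in its fibre. -/
theorem forall_loc_iff {A B : Type u} [CommRing A] [CommRing B] [Algebra A B] (M : Type u) [AddCommGroup M]
    [Module B M]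
    (C : ∀ (R : Type u) [CommRing R] [IsLocalRing R] (M : Type u) [AddCommGroup M] [Module R M], Prop)
    (hC : ∀ {R S : Type u} [CommRing R] [CommRing S] [IsLocalRing R] [IsLocalRing S]
      (M N : Type u) [AddCommGroup M] [Module R M] [AddCommGroup N] [Module S N]
      (σ : R ≃+* S) (e : M ≃+ N), (∀ (r : R) (m : M), e (r • m) = σ r • e m) → (C R M ↔ C S N))
    (q : PrimeSpectrum B) :
    (∀ (t : Ideal (FibLocRing A B q.asIdeal)) [t.IsPrime], C (Localization.AtPrime t)
      (LocalizedModule t.primeCompl (FibLocMod A B q.asIdeal M))) ↔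
      ∀ q' ≤ q, PrimeSpectrum.comap (algebraMap A B) q' = PrimeSpectrum.comap (algebraMap A B) q →
        C (FibLocRing A B q'.asIdeal) (FibLocMod A B q'.asIdeal M) := by
  have key : ∀ (t : Ideal (FibLocRing A B q.asIdeal)) [t.IsPrime] (q' : Ideal B) [q'.IsPrime]
      (_ : t.comap (algebraMap B (FibLocRing A B q.asIdeal)) = q'),
      C (Localization.AtPrime t) (LocalizedModule t.primeCompl (FibLocMod A B q.asIdeal M)) ↔
        C (FibLocRing A B q') (FibLocMod A B q' M) := by
    intro t _ q' _ hq'
    obtain ⟨σ, e, he⟩ := exists_loc_equiv A M q.asIdeal t q' hq'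
    exact hC _ _ σ e he
  constructor
  · intro h q' hle hc
    let t := (orderIso A q).symm ⟨q', hle, hc⟩
    have ht : PrimeSpectrum.comap (algebraMap B (FibLocRing A B q.asIdeal)) t = q' := by
      rw [← orderIso_apply, OrderIso.apply_symm_apply]
    exact (key t.asIdeal q'.asIdeal (congrArg PrimeSpectrum.asIdeal ht)).mp (h t.asIdeal)
  · intro h t ht
    obtain ⟨hle, hc⟩ := comap_mem A q.asIdeal t
    have hprime : (t.comap (algebraMap B (FibLocRing A B q.asIdeal))).IsPrime := inferInstance
    refine (key t _ rfl).mpr ?_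
    exact h ⟨t.comap (algebraMap B (FibLocRing A B q.asIdeal)), hprime⟩ hle (PrimeSpectrum.ext hc)

theorem isEquidimModule_congr {R S : Type u} [CommRing R] [CommRing S]
    (M N : Type u) [AddCommGroup M] [Module R M] [AddCommGroup N] [Module S N]
    (σ : R →+* S) (hσ : Surjective σ) (e : M ≃+ N) (he : ∀ (r : R) (m : M), e (r • m) = σ r • e m) :
    IsEquidimModule R M ↔ IsEquidimModule S N := by
  have hann : Module.annihilator R M = (Module.annihilator S N).comap σ := by
    ext r
    rw [Ideal.mem_comap, Module.mem_annihilator, Module.mem_annihilator]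
    constructor
    · intro h n
      obtain ⟨m, rfl⟩ := e.surjective n
      rw [← he, h m, map_zero]
    · intro h m
      apply e.injective
      rw [he, h, map_zero]
  have hdim := Ega4B.DepthTransfer.supportDim_eq σ e he hσ
  have hq : ∀ p : Ideal S, ringKrullDim (R ⧸ p.comap σ) = ringKrullDim (S ⧸ p) := fun p =>
    ringKrullDim_quotient_comap σ hσ p
  unfold IsEquidimModule
  rw [hann, Ideal.comap_minimalPrimes_eq_of_surjective hσ, ← hdim]
  constructor
  · intro h p hp
    rw [← hq]
    exact h _ ⟨p, hp, rfl⟩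
  · rintro h _ ⟨p, hp, rfl⟩
    rw [hq]
    exact h p hp

section Local

variable {B : Type u} [CommRing B] [IsRegularLocalRing B] (N : Type u) [AddCommGroup N] [Module B N]
  [Module.Finite B N]

theorem forall_D_iff (c : ℕ) : (∀ (t : Ideal B) [t.IsPrime], D c (Localization.AtPrime t)
    (LocalizedModule t.primeCompl N)) ↔
      (∀ t ∈ Module.support B N, (c : ℕ∞) ≤ t.asIdeal.height) ∧
        ∀ t ∈ associatedPrimes B N, t.height = c := by
  unfold D
  constructor
  · intro h
    constructor
    · intro t ht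
      have h1 := (h t.asIdeal).1 ht
      rw [IsLocalization.AtPrime.ringKrullDim_eq_height t.asIdeal (Localization.AtPrime t.asIdeal)] at h1
      exact_mod_cast h1
    · intro t ht
      have htp : t.IsPrime := ht.isPrime
      rcases (h t).2 with h1 | h1
      · exact absurd ht ((Ega4B.DepthFinite.one_le_depth_atPrime_iff t N).mp h1)
      · rw [IsLocalization.AtPrime.ringKrullDim_eq_height t (Localization.AtPrime t)] at h1
        exact_mod_cast h1
  · rintro ⟨h1, h2⟩ t ht
    rw [IsLocalization.AtPrime.ringKrullDim_eq_height t (Localization.AtPrime t)]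
    constructor
    · intro h
      have := h1 ⟨t, ht⟩ h
      exact_mod_cast this
    · by_cases hass : t ∈ associatedPrimes B N
      · exact Or.inr (by exact_mod_cast h2 t hass)
      · exact Or.inl ((Ega4B.DepthFinite.one_le_depth_atPrime_iff t N).mpr hass)

/-- Over a regular local ring: `(S_1)` and equidimensional iff all associated primes have the same height `c` and
the support is in codimension at least `c`. -/
theorem hasS1_and_equidim_iff : (LocCoh.HasSk 1 B N ∧ IsEquidimModule B N) ↔
    ∃ c : ℕ, (∀ t ∈ Module.support B N, (c : ℕ∞) ≤ t.asIdeal.height) ∧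
        ∀ t ∈ associatedPrimes B N, t.height = c := by
  rw [← Groth.Agent.S2085.result]
  have hmem : ∀ p ∈ (Module.annihilator B N).minimalPrimes, ∃ hp : p.IsPrime,
      (⟨p, hp⟩ : PrimeSpectrum B) ∈ Module.support B N := fun p hp =>
    ⟨hp.1.1, Module.mem_support_iff_of_finite.mpr hp.1.2⟩
  obtain ⟨d, hd⟩ := CalgA.RegBasic.ringKrullDim_eq_natCast B
  have key : ∀ (q : Ideal B) [q.IsPrime], ∃ a b : ℕ, q.height = a ∧
      ringKrullDim (B ⧸ q) = b ∧ a + b = d := by
    intro q _
    have h := Ega4B.Codepth.height_add_ringKrullDim_quotient q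
    have hne : q.height ≠ ⊤ := Ideal.height_ne_top_of_isPrime
    obtain ⟨a, ha⟩ := ENat.ne_top_iff_exists.mp hne
    have : IsLocalRing (B ⧸ q) :=
      IsLocalRing.of_surjective' (Ideal.Quotient.mk q) Ideal.Quotient.mk_surjective
    obtain ⟨b, hb⟩ := CalgA.RegBasic.ringKrullDim_eq_natCast (B ⧸ q)
    refine ⟨a, b, ha.symm, hb, ?_⟩
    rw [← ha, hb, hd] at h
    exact_mod_cast h
  constructor
  · rintro ⟨h1, h2⟩
    by_cases hne : (Module.annihilator B N).minimalPrimes.Nonempty
    · obtain ⟨p0, hp0⟩ := hne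
      obtain ⟨hp0', -⟩ := hmem p0 hp0
      obtain ⟨c, b0, hc, hb0, hcb⟩ := key p0
      have hmin : ∀ p ∈ (Module.annihilator B N).minimalPrimes, p.height = c := by
        intro p hp
        obtain ⟨hp', -⟩ := hmem p hp
        obtain ⟨a, b, ha, hb, hab⟩ := key p
        have h3 := h2 p hp
        rw [← h2 p0 hp0, hb, hb0] at h3
        have h4 : b = b0 := by exact_mod_cast h3
        rw [ha]
        have : a = c := by omega
        rw [this]
      refine ⟨c, ?_, fun t ht => hmin t (h1 t ht)⟩
      intro t ht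
      rw [Module.mem_support_iff_of_finite] at ht
      obtain ⟨p, hp, hpt⟩ := Ideal.exists_minimalPrimes_le ht
      rw [← hmin p hp]
      exact Ideal.height_mono hpt
    · refine ⟨0, fun t _ => by simp, fun t ht => absurd ⟨t, h1 t ht⟩ hne⟩
  · rintro ⟨c, h1, h2⟩
    have hmin0 : ∀ p ∈ associatedPrimes B N, p ∈ (Module.annihilator B N).minimalPrimes := by
      intro p hp
      have hp' : p.IsPrime := hp.isPrime
      have hle : Module.annihilator B N ≤ p := by
        rw [← Submodule.annihilator_top]
        exact hp.annihilator_le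
      refine ⟨⟨hp', hle⟩, ?_⟩
      rintro p' ⟨hp'1, hp'2⟩ hp'3
      have h3 := h1 ⟨p', hp'1⟩ (Module.mem_support_iff_of_finite.mpr hp'2)
      by_contra hcon
      have hlt : p' < p := lt_of_le_not_ge hp'3 hcon
      have h4 : p'.height < p.height := Ideal.height_strict_mono_of_isPrime_of_isPrime hlt
      rw [h2 p hp] at h4
      exact absurd h3 (not_le.mpr h4)
    refine ⟨hmin0, ?_⟩
    intro p hp
    obtain ⟨hp', hps⟩ := hmem p hp
    have h3 : p.height = c :=
      h2 p (Module.associatedPrimes.minimalPrimes_annihilator_subset_associatedPrimes B N hp)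
    refine le_antisymm (Ega4B.Codepth.ringKrullDim_quotient_le_supportDim ⟨p, hp'⟩ hps) ?_
    have h4 := (Ega4B.Codepth.add_supportDim_le_iff (B := B) (N := N) c).mpr h1
    obtain ⟨a, b, ha, hb, hab⟩ := key p
    have hac : a = c := by rw [h3] at ha; exact_mod_cast ha.symm
    subst hac
    rw [hb]
    rw [hd, ← hab] at h4
    have hnb : Module.supportDim B N ≠ ⊥ := by
      have : Nontrivial N := by
        rw [← Module.nonempty_support_iff (R := B)]
        exact ⟨_, hps⟩
      exact Module.supportDim_ne_bot_of_nontrivial B N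
    lift Module.supportDim B N to ℕ∞ using hnb with s hs
    have h5 : (a : ℕ∞) + s ≤ (a : ℕ∞) + b := by exact_mod_cast h4
    have h6 : s ≤ b := (ENat.add_le_add_iff_left (ENat.natCast_ne_top a)).mp h5
    exact_mod_cast h6

end Local

section Poly

variable (A : Type u) [CommRing A] (N : ℕ) (M : Type u) [AddCommGroup M]
  [Module (MvPolynomial (Fin N) A) M] [Module.Finite (MvPolynomial (Fin N) A) M]

theorem not_D_iff (c : ℕ) (Q : PrimeSpectrum (MvPolynomial (Fin N) A)) :
    ¬ D c (FibLocRing A (MvPolynomial (Fin N) A) Q.asIdeal)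
      (FibLocMod A (MvPolynomial (Fin N) A) Q.asIdeal M) ↔
    Q ∈ Module.support (MvPolynomial (Fin N) A) M ∧
      ((∃ n, c = n + 1 ∧ ringKrullDim (FibLocRing A (MvPolynomial (Fin N) A) Q.asIdeal) ≤ (n : ℕ)) ∨
        ∃ n < N, c ≤ n ∧ ¬ HasProjectiveDimensionLE (ModuleCat.of
          (FibLocRing A (MvPolynomial (Fin N) A) Q.asIdeal)
          (FibLocMod A (MvPolynomial (Fin N) A) Q.asIdeal M)) n ∧
          ringKrullDim (FibLocRing A (MvPolynomial (Fin N) A) Q.asIdeal) ≤ ((n + 1 : ℕ) : WithBot ℕ∞)) := by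
  have hreg := isRegularLocalRing_fib (A := A) (N := N) Q.asIdeal
  by_cases hQ : Q ∈ Module.support (MvPolynomial (Fin N) A) M
  · have hnt := nontrivial_fib A N M Q hQ
    obtain ⟨e, d, h, hpd, hdep, hdim, hsum⟩ := exists_data
      (B := FibLocRing A (MvPolynomial (Fin N) A) Q.asIdeal)
      (FibLocMod A (MvPolynomial (Fin N) A) Q.asIdeal M)
    have hN : h ≤ N := by
      have := dim_fib_le A N Q
      rw [hdim] at this
      exact_mod_cast this
    have h1 : ¬ D c (FibLocRing A (MvPolynomial (Fin N) A) Q.asIdeal)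
      (FibLocMod A (MvPolynomial (Fin N) A) Q.asIdeal M) ↔ (h < c ∨ (d = 0 ∧ h ≠ c)) := by
      unfold D
      rw [hdep, hdim]
      simp only [hnt, true_implies]
      rw [not_and_or, not_or, not_le, not_le]
      norm_cast
      refine or_congr Iff.rfl (and_congr ?_ Iff.rfl)
      omega
    rw [h1, hdim]
    simp only [hQ, true_and, hpd]
    constructor
    · rintro (h2 | ⟨h2, h3⟩)
      · exact Or.inl ⟨c - 1, by omega, by
          have : h ≤ c - 1 := by omega
          exact_mod_cast this⟩
      · rcases Nat.lt_or_gt_of_ne h3 with h4 | h4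
        · exact Or.inl ⟨c - 1, by omega, by
            have : h ≤ c - 1 := by omega
            exact_mod_cast this⟩
        · refine Or.inr ⟨h - 1, by omega, by omega, by omega, ?_⟩
          have : h ≤ h - 1 + 1 := by omega
          exact_mod_cast this
    · rintro (⟨n, hn, h2⟩ | ⟨n, hnN, hcn, h2, h3⟩)
      · have h4 : h ≤ n := by exact_mod_cast h2
        left
        omega
      · have h4 : h ≤ n + 1 := by exact_mod_cast h3
        right
        omega
  · have hsub := subsingleton_fib A N M Q hQ
    simp only [hQ, false_and, iff_false, not_not]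
    refine ⟨fun hnt => absurd hsub (not_subsingleton_iff_nontrivial.mpr hnt), Or.inl ?_⟩
    rw [Ega4B.DepthBasic.depth_eq_top_of_subsingleton]
    exact le_top

theorem isOpen_D [Module A M] [IsScalarTower A (MvPolynomial (Fin N) A) M]
    [Module.FinitePresentation (MvPolynomial (Fin N) A) M] [Module.Flat A M]
    (hK : KerFP A (MvPolynomial (Fin N) A)) (c : ℕ) :
    IsOpen {Q : PrimeSpectrum (MvPolynomial (Fin N) A) | ∀ Q' ≤ Q,
      PrimeSpectrum.comap (algebraMap A (MvPolynomial (Fin N) A)) Q' =
        PrimeSpectrum.comap (algebraMap A (MvPolynomial (Fin N) A)) Q →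
      D c (FibLocRing A (MvPolynomial (Fin N) A) Q'.asIdeal)
        (FibLocMod A (MvPolynomial (Fin N) A) Q'.asIdeal M)} := by
  let S := Module.support (MvPolynomial (Fin N) A) M
  let V : ℕ → Set (PrimeSpectrum (MvPolynomial (Fin N) A)) := fun n ↦
    S ∩ {Q | HasProjectiveDimensionLE (ModuleCat.of
        (FibLocRing A (MvPolynomial (Fin N) A) Q.asIdeal)
        (FibLocMod A (MvPolynomial (Fin N) A) Q.asIdeal M)) n}ᶜ
  have hV : ∀ n, IsClosed (V n) := fun n ↦
    Module.isClosed_support.inter (isOpen_pd A _ hK n M).isClosed_compl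
  rw [← isClosed_compl_iff]
  have h : {Q : PrimeSpectrum (MvPolynomial (Fin N) A) | ∀ Q' ≤ Q,
      PrimeSpectrum.comap (algebraMap A (MvPolynomial (Fin N) A)) Q' =
        PrimeSpectrum.comap (algebraMap A (MvPolynomial (Fin N) A)) Q →
      D c (FibLocRing A (MvPolynomial (Fin N) A) Q'.asIdeal)
        (FibLocMod A (MvPolynomial (Fin N) A) Q'.asIdeal M)}ᶜ =
      {Q | ∃ n, c = n + 1 ∧ Q ∈ E S n} ∪ ⋃ n ∈ Set.Iio N, {Q | c ≤ n ∧ Q ∈ E (V n) (n + 1)} := by
    ext Q
    simp only [Set.mem_compl_iff, Set.mem_ofPred_eq, Set.mem_union, Set.mem_iUnion, Set.mem_Iio, exists_prop]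
    constructor
    · intro h
      push Not at h
      obtain ⟨Q', hle, hc, hQ'⟩ := h
      obtain ⟨h1, h2⟩ := (not_D_iff A N M c Q').mp hQ'
      rcases h2 with ⟨n, hn, hd⟩ | ⟨n, hnN, hcn, hp, hd⟩
      · exact Or.inl ⟨n, hn, Q', h1, hle, hc, hd⟩
      · exact Or.inr ⟨n, hnN, hcn, Q', ⟨h1, hp⟩, hle, hc, hd⟩
    · rintro (⟨n, hn, Q', h1, hle, hc, hd⟩ | ⟨n, hnN, hcn, Q', ⟨h1, hp⟩, hle, hc, hd⟩) h
      · exact (not_D_iff A N M c Q').mpr ⟨h1, Or.inl ⟨n, hn, hd⟩⟩ (h Q' hle hc)
      · exact (not_D_iff A N M c Q').mpr ⟨h1, Or.inr ⟨n, hnN, hcn, hp, hd⟩⟩ (h Q' hle hc)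
  rw [h]
  refine IsClosed.union ?_ ?_
  · rcases c with _ | c
    · simp
    · have h2 : {Q | ∃ n, c + 1 = n + 1 ∧ Q ∈ E S n} = E S c := by
        ext Q
        simp only [Set.mem_ofPred_eq, Nat.add_right_cancel_iff]
        constructor
        · rintro ⟨n, rfl, h⟩
          exact h
        · intro h
          exact ⟨c, rfl, h⟩
      rw [h2]
      exact isClosed_E _ Module.isClosed_support _
  · refine Set.Finite.isClosed_biUnion (Set.finite_Iio N) fun n _ ↦ ?_
    by_cases hc : c ≤ n
    · simp only [hc, true_and]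
      exact isClosed_E _ (hV n) (n + 1)
    · simp only [hc, false_and]
      exact isClosed_empty

end Poly

section Main

variable {A B : Type u} [CommRing A] [CommRing B] [Algebra A B] (M : Type u) [AddCommGroup M] [Module B M]

theorem hasSk_mono {R : Type u} [CommRing R] {M : Type u} [AddCommGroup M] [Module R M] {k l : ℕ} (hkl : k ≤ l)
    (h : LocCoh.HasSk l R M) : LocCoh.HasSk k R M := by
  intro p hp
  refine le_trans ?_ (h p)
  refine min_le_min ?_ le_rfl
  exact_mod_cast hkl

/-- `(S_k)` of the fibre module at `q` only depends on the prime below of a polynomial ring mapping onto `B`. -/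
theorem hasSk_comap_iff {N : ℕ} [Algebra (MvPolynomial (Fin N) A) B] [IsScalarTower A (MvPolynomial (Fin N) A) B]
    (hs : Surjective (algebraMap (MvPolynomial (Fin N) A) B)) [Module (MvPolynomial (Fin N) A) M]
    [IsScalarTower (MvPolynomial (Fin N) A) B M] [Module.Finite (MvPolynomial (Fin N) A) M] (k : ℕ)
    (q : PrimeSpectrum B) :
    LocCoh.HasSk k (FibLocRing A B q.asIdeal) (FibLocMod A B q.asIdeal M) ↔
      LocCoh.HasSk k (FibLocRing A (MvPolynomial (Fin N) A)
        (PrimeSpectrum.comap (algebraMap (MvPolynomial (Fin N) A) B) q).asIdeal)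
        (FibLocMod A (MvPolynomial (Fin N) A)
        (PrimeSpectrum.comap (algebraMap (MvPolynomial (Fin N) A) B) q).asIdeal M) := by
  rw [hasSk_fib_iff, hasSk_fib_iff]
  refine forall_generization_iff M hs _ _ (fun q' => ?_) (fun Q' hQ' => ?_) q
  · obtain ⟨σ, e, hσ, he⟩ := exists_fib_equiv (A := A) hs M q'.asIdeal
    exact (minLeM_congr k _ _ σ hσ e he).symm
  · by_contra hcon
    exact hQ' ((not_goodK_iff A N M k Q').mp hcon).1

/-- Openness of the locus of equidimensional `(S_k)` fibres, `k ≥ 1`, affine case. -/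
theorem isOpen_equidim_hasSk [Algebra.FinitePresentation A B] [Module A M] [IsScalarTower A B M]
    [Module.FinitePresentation B M] [Module.Flat A M] (k : ℕ) (hk : 1 ≤ k) :
    IsOpen {q : PrimeSpectrum B |
      IsEquidimModule (FibLocRing A B q.asIdeal) (FibLocMod A B q.asIdeal M) ∧
      LocCoh.HasSk k (FibLocRing A B q.asIdeal) (FibLocMod A B q.asIdeal M)} := by
  obtain ⟨N, i1, i2, i3, i4, i5, hs, i6⟩ := exists_poly_data (A := A) (B := B) M
  have hK := FlatKer.kerFP A (MvPolynomial (Fin N) A)
  have hopen : IsOpen (⋃ c : ℕ, {Q : PrimeSpectrum (MvPolynomial (Fin N) A) | ∀ Q' ≤ Q,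
      PrimeSpectrum.comap (algebraMap A (MvPolynomial (Fin N) A)) Q' =
        PrimeSpectrum.comap (algebraMap A (MvPolynomial (Fin N) A)) Q →
      D c (FibLocRing A (MvPolynomial (Fin N) A) Q'.asIdeal)
        (FibLocMod A (MvPolynomial (Fin N) A) Q'.asIdeal M)}) :=
    isOpen_iUnion fun c => isOpen_D A N M hK c
  have h := (hopen.preimage (PrimeSpectrum.continuous_comap (algebraMap (MvPolynomial (Fin N) A) B))).inter
    (isOpen_hasSk_mod (A := A) (B := B) M k)
  convert h using 1
  ext q
  rw [Set.mem_inter_iff, Set.mem_preimage, Set.mem_iUnion, Set.mem_ofPred_eq, Set.mem_ofPred_eq]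
  simp only [Set.mem_ofPred_eq]
  have hreg := isRegularLocalRing_fib (A := A) (N := N)
    (PrimeSpectrum.comap (algebraMap (MvPolynomial (Fin N) A) B) q).asIdeal
  have hfin : Module.Finite (FibLocRing A (MvPolynomial (Fin N) A)
        (PrimeSpectrum.comap (algebraMap (MvPolynomial (Fin N) A) B) q).asIdeal)
        (FibLocMod A (MvPolynomial (Fin N) A)
        (PrimeSpectrum.comap (algebraMap (MvPolynomial (Fin N) A) B) q).asIdeal M) := inferInstance
  have h1 : (∃ c : ℕ, ∀ Q' ≤ PrimeSpectrum.comap (algebraMap (MvPolynomial (Fin N) A) B) q,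
      PrimeSpectrum.comap (algebraMap A (MvPolynomial (Fin N) A)) Q' =
        PrimeSpectrum.comap (algebraMap A (MvPolynomial (Fin N) A))
          (PrimeSpectrum.comap (algebraMap (MvPolynomial (Fin N) A) B) q) →
      D c (FibLocRing A (MvPolynomial (Fin N) A) Q'.asIdeal)
        (FibLocMod A (MvPolynomial (Fin N) A) Q'.asIdeal M)) ↔
      (LocCoh.HasSk 1 (FibLocRing A (MvPolynomial (Fin N) A)
        (PrimeSpectrum.comap (algebraMap (MvPolynomial (Fin N) A) B) q).asIdeal)
        (FibLocMod A (MvPolynomial (Fin N) A)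
        (PrimeSpectrum.comap (algebraMap (MvPolynomial (Fin N) A) B) q).asIdeal M) ∧
        IsEquidimModule (FibLocRing A (MvPolynomial (Fin N) A)
        (PrimeSpectrum.comap (algebraMap (MvPolynomial (Fin N) A) B) q).asIdeal)
        (FibLocMod A (MvPolynomial (Fin N) A)
        (PrimeSpectrum.comap (algebraMap (MvPolynomial (Fin N) A) B) q).asIdeal M)) := by
    rw [hasS1_and_equidim_iff]
    refine exists_congr fun c => ?_
    rw [← forall_D_iff]
    exact (forall_loc_iff M (fun R _ _ M _ _ => D c R M) (fun M N _ _ _ _ σ e he => D_congr c M N σ e he) _).symm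
  rw [h1, ← hasSk_comap_iff M hs]
  have h2 : IsEquidimModule (FibLocRing A (MvPolynomial (Fin N) A)
        (PrimeSpectrum.comap (algebraMap (MvPolynomial (Fin N) A) B) q).asIdeal)
        (FibLocMod A (MvPolynomial (Fin N) A)
        (PrimeSpectrum.comap (algebraMap (MvPolynomial (Fin N) A) B) q).asIdeal M) ↔
      IsEquidimModule (FibLocRing A B q.asIdeal) (FibLocMod A B q.asIdeal M) := by
    obtain ⟨σ, e, hσ, he⟩ := exists_fib_equiv (A := A) hs M q.asIdeal
    exact isEquidimModule_congr _ _ σ hσ e he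
  rw [h2]
  constructor
  · rintro ⟨h3, h4⟩
    exact ⟨⟨hasSk_mono hk h4, h3⟩, h4⟩
  · rintro ⟨⟨-, h3⟩, h4⟩
    exact ⟨h3, h4⟩

end Main

end K130.FibEquidim
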