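import Groth.Agent.Ega43.FibSpec
import Groth.Agent.Ega4B.DepthTransfer
import Mathlib.RingTheory.Localization.Ideal
import Mathlib.RingTheory.Localization.LocalizationLocalization

/-!
# Localizations of the fibre local rings and modules

* `exists_loc_equiv`: for a prime `t` of `FibLocRing A B q` over the prime `q'` of `B`, the localization at `t` of the pair
  `(FibLocRing A B q, FibLocMod A B q M)` is the pair `(FibLocRing A B q', FibLocMod A B q' M)`.
* `hasSk_fib_iff`: `(S_k)` for the fibre module at `q` in terms of the generizations of `q` in the fibre.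
-/

set_option autoImplicit false
universe u

open TensorProduct EGA4

namespace K130.FibLocal

open Groth.Agent Ega43.FibSpec

theorem isLocalization_quotient {A : Type u} [CommRing A] (I q : Ideal A) [q.IsPrime] (Q : Ideal (A ⧸ I)) [Q.IsPrime]
    (hQ : Q.comap (Ideal.Quotient.mk I) = q) :
    IsLocalization.AtPrime
      (Localization.AtPrime q ⧸ I.map (algebraMap A (Localization.AtPrime q))) Q := by
  have h : Algebra.algebraMapSubmonoid (A ⧸ I) q.primeCompl = Q.primeCompl := by
    ext x
    obtain ⟨y, rfl⟩ := Ideal.Quotient.mk_surjective x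
    have hmem : ∀ z : A, Ideal.Quotient.mk I z ∈ Q ↔ z ∈ q := fun z ↦ by rw [← hQ]; rfl
    constructor
    · rintro ⟨z, hz, hzy⟩
      have hzy' : Ideal.Quotient.mk I z = Ideal.Quotient.mk I y := hzy
      change Ideal.Quotient.mk I y ∉ Q
      rw [← hzy', hmem]
      exact hz
    · intro hy
      exact ⟨y, fun hyq ↦ hy ((hmem y).mpr hyq), rfl⟩
  unfold IsLocalization.AtPrime
  rw [← h]
  infer_instance

theorem nonempty_quot_loc {B C : Type u} [CommRing B] [CommRing C] [Algebra B C] (I : Ideal C)
    (t : Ideal (C ⧸ I)) [t.IsPrime] :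
    Nonempty (Localization.AtPrime t ≃ₐ[B] (Localization.AtPrime (t.comap (Ideal.Quotient.mk I)) ⧸
      I.map (algebraMap C (Localization.AtPrime (t.comap (Ideal.Quotient.mk I)))))) := by
  have h1 := isLocalization_quotient I (t.comap (Ideal.Quotient.mk I)) t rfl
  let σ1 : Localization.AtPrime t ≃ₐ[C ⧸ I] (Localization.AtPrime (t.comap (Ideal.Quotient.mk I)) ⧸
      I.map (algebraMap C (Localization.AtPrime (t.comap (Ideal.Quotient.mk I))))) :=
    IsLocalization.algEquiv t.primeCompl _ _
  have t1 : IsScalarTower B (C ⧸ I) (Localization.AtPrime (t.comap (Ideal.Quotient.mk I)) ⧸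
      I.map (algebraMap C (Localization.AtPrime (t.comap (Ideal.Quotient.mk I))))) :=
    IsScalarTower.of_algebraMap_eq fun b => by
      change Ideal.Quotient.mk _ (algebraMap B (Localization.AtPrime (t.comap (Ideal.Quotient.mk I))) b) =
        Ideal.Quotient.mk _ (algebraMap C (Localization.AtPrime (t.comap (Ideal.Quotient.mk I)))
          (algebraMap B C b))
      rw [← IsScalarTower.algebraMap_apply B C]
  exact ⟨σ1.restrictScalars B⟩

variable (A : Type u) {B : Type u} [CommRing A] [CommRing B] [Algebra A B]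

/-- The ring part. -/
theorem nonempty_algEquiv (q : Ideal B) [q.IsPrime] (t : Ideal (FibLocRing A B q)) [t.IsPrime]
    (q' : Ideal B) [q'.IsPrime] (hq' : t.comap (algebraMap B (FibLocRing A B q)) = q') :
    Nonempty (Localization.AtPrime t ≃ₐ[B] FibLocRing A B q') := by
  have hcomap : (t.comap (algebraMap B (FibLocRing A B q))).comap (algebraMap A B) =
      q.comap (algebraMap A B) := (comap_mem A q t).2
  rw [hq'] at hcomap
  obtain ⟨σ1⟩ := nonempty_quot_loc (B := B) (C := Localization.AtPrime q)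
    ((q.comap (algebraMap A B)).map (algebraMap A (Localization.AtPrime q))) t
  have hq1 : (t.comap (Ideal.Quotient.mk ((q.comap (algebraMap A B)).map
      (algebraMap A (Localization.AtPrime q))))).comap (algebraMap B (Localization.AtPrime q)) = q' := by
    rw [← hq', Ideal.comap_comap]
    rfl
  have h2 : ∀ (q1 : Ideal (Localization.AtPrime q)) [q1.IsPrime]
      (_ : q1.comap (algebraMap B (Localization.AtPrime q)) = q'),
      Nonempty (FibLocRing A B q' ≃ₐ[B] (Localization.AtPrime q1 ⧸
        ((q.comap (algebraMap A B)).map (algebraMap A (Localization.AtPrime q))).map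
          (algebraMap (Localization.AtPrime q) (Localization.AtPrime q1)))) := by
    intro q1 _ hq1
    subst hq1
    let e := IsLocalization.localizationLocalizationAtPrimeIsoLocalization q.primeCompl q1
    refine ⟨Ideal.quotientEquivAlg _ _ e ?_⟩
    rw [hcomap, Ideal.map_map, Ideal.map_map]
    congr 1
    ext a
    change algebraMap (Localization.AtPrime q) (Localization.AtPrime q1)
      (algebraMap A (Localization.AtPrime q) a) = e (algebraMap A _ a)
    rw [IsScalarTower.algebraMap_apply A B (Localization.AtPrime q),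
      IsScalarTower.algebraMap_apply A B (Localization.AtPrime
        (q1.comap (algebraMap B (Localization.AtPrime q)))),
      e.commutes, ← IsScalarTower.algebraMap_apply B (Localization.AtPrime q)]
  obtain ⟨σ2⟩ := h2 _ hq1
  exact ⟨σ1.trans σ2.symm⟩

variable (M : Type u) [AddCommGroup M] [Module B M]

/-- Two base changes of `M` along isomorphic `B`-algebras are semilinearly isomorphic. -/
theorem exists_semilinear {R₁ R₂ N₁ N₂ : Type u} [CommRing R₁] [CommRing R₂] [Algebra B R₁] [Algebra B R₂]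
    [AddCommGroup N₁] [Module B N₁] [Module R₁ N₁] [IsScalarTower B R₁ N₁]
    [AddCommGroup N₂] [Module B N₂] [Module R₂ N₂] [IsScalarTower B R₂ N₂]
    (σ : R₁ ≃ₐ[B] R₂) {f₁ : M →ₗ[B] N₁} (h₁ : IsBaseChange R₁ f₁) {f₂ : M →ₗ[B] N₂} (h₂ : IsBaseChange R₂ f₂) :
    ∃ e : N₁ ≃+ N₂, (∀ (r : R₁) (n : N₁), e (r • n) = σ r • e n) ∧ ∀ m, e (f₁ m) = f₂ m := by
  let e0 : R₁ ⊗[B] M ≃ₗ[B] R₂ ⊗[B] M := TensorProduct.congr σ.toLinearEquiv (LinearEquiv.refl B M)
  let e : N₁ ≃+ N₂ := (h₁.equiv.symm.toAddEquiv.trans e0.toAddEquiv).trans h₂.equiv.toAddEquiv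
  have key : ∀ (r : R₁) (x : R₁ ⊗[B] M), h₂.equiv (e0 (r • x)) = σ r • h₂.equiv (e0 x) := by
    intro r x
    induction x with
    | zero => simp
    | add x y hx hy => simp only [smul_add, map_add, hx, hy]
    | tmul a m =>
      rw [TensorProduct.smul_tmul']
      simp only [e0, TensorProduct.congr_tmul, IsBaseChange.equiv_tmul]
      change σ (r • a) • f₂ m = σ r • σ a • f₂ m
      rw [smul_eq_mul, map_mul, mul_smul]
  refine ⟨e, fun r n => ?_, fun m => ?_⟩
  · obtain ⟨x, rfl⟩ := h₁.equiv.surjective n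
    have h3 : e (r • h₁.equiv x) = h₂.equiv (e0 (r • x)) := by
      change h₂.equiv (e0 (h₁.equiv.symm (r • h₁.equiv x))) = _
      rw [← map_smul, LinearEquiv.symm_apply_apply]
    have h4 : e (h₁.equiv x) = h₂.equiv (e0 x) := by
      change h₂.equiv (e0 (h₁.equiv.symm (h₁.equiv x))) = _
      rw [LinearEquiv.symm_apply_apply]
    rw [h3, h4, key]
  · have h3 : f₁ m = h₁.equiv (1 ⊗ₜ m) := by rw [IsBaseChange.equiv_tmul, one_smul]
    rw [h3]
    change h₂.equiv (e0 (h₁.equiv.symm (h₁.equiv (1 ⊗ₜ m)))) = _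
    rw [LinearEquiv.symm_apply_apply]
    simp only [e0, TensorProduct.congr_tmul, IsBaseChange.equiv_tmul]
    change σ 1 • f₂ m = f₂ m
    rw [map_one, one_smul]

theorem exists_loc_semilinear {R₁ R₂ N₁ N₂ : Type u} [CommRing R₁] [CommRing R₂] [Algebra B R₁] [Algebra B R₂]
    [AddCommGroup N₁] [Module B N₁] [Module R₁ N₁] [IsScalarTower B R₁ N₁]
    [AddCommGroup N₂] [Module B N₂] [Module R₂ N₂] [IsScalarTower B R₂ N₂]
    (t : Ideal R₁) [t.IsPrime] (σ : Localization.AtPrime t ≃ₐ[B] R₂)
    {f₁ : M →ₗ[B] N₁} (h₁ : IsBaseChange R₁ f₁) {f₂ : M →ₗ[B] N₂} (h₂ : IsBaseChange R₂ f₂) :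
    ∃ e : LocalizedModule t.primeCompl N₁ ≃+ N₂,
      ∀ (r : Localization.AtPrime t) (n : LocalizedModule t.primeCompl N₁), e (r • n) = σ r • e n := by
  have h2 : IsBaseChange (Localization.AtPrime t)
      (LocalizedModule.mkLinearMap t.primeCompl N₁) :=
    IsLocalizedModule.isBaseChange t.primeCompl (Localization.AtPrime t) _
  have h3 := h₁.comp h2
  obtain ⟨e, he, -⟩ := exists_semilinear M σ h3 h₂
  exact ⟨e, he⟩

/-- The localization of the fibre pair at a prime. -/
theorem exists_loc_equiv (q : Ideal B) [q.IsPrime] (t : Ideal (FibLocRing A B q)) [t.IsPrime]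
    (q' : Ideal B) [q'.IsPrime] (hq' : t.comap (algebraMap B (FibLocRing A B q)) = q') :
    ∃ (σ : Localization.AtPrime t ≃+* FibLocRing A B q')
      (e : LocalizedModule t.primeCompl (FibLocMod A B q M) ≃+ FibLocMod A B q' M),
      ∀ r n, e (r • n) = σ r • e n := by
  obtain ⟨σ⟩ := nonempty_algEquiv A q t q' hq'
  obtain ⟨e, he⟩ := exists_loc_semilinear M t σ (isBaseChange_fib A M q) (isBaseChange_fib A M q')
  exact ⟨σ.toRingEquiv, e, he⟩

end K130.FibLocal
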