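import Groth.Agent.Ega43.NilpotentFlat
import Groth.Agent.Flat2D.NilpFlat
import Mathlib.RingTheory.Filtration
import Mathlib.RingTheory.Flat.Tensor
import Mathlib.RingTheory.AdicCompletion.Basic
import Mathlib.RingTheory.Localization.AtPrime.Basic
import Mathlib.RingTheory.Ideal.AssociatedPrime.Finiteness
import Mathlib.RingTheory.Regular.IsSMulRegular
import Mathlib.RingTheory.Flat.TorsionFree

/-!
# Flatness of ideally separated modules

* `flat_of_ideallySeparated`: `A` Noetherian, `M` with `𝔞 ⊗ M` separated for the `J`-adic topology for all ideals `𝔞`,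
  `M / J^n M` flat over `A / J^n` for all `n`; then `M` is flat.
* `flat_quotient_of_injective`: flatness of `M / K M` over `A / K` from flatness modulo `J` (`J^n ≤ K`) and flatness of
  `B i ⊗ M` for a finite family of `A`-algebras with `A / K → ∏ B i` injective.
-/

set_option autoImplicit false
universe u

open TensorProduct Function

namespace K130.FlatSep

theorem mem_pow_smul_of_mem {A M : Type u} [CommRing A] [AddCommGroup M] [Module A M] (I 𝔞 : Ideal A)
    (i k : ℕ) (hk : ∀ n ≥ k, I ^ n • ⊤ ⊓ 𝔞 = I ^ (n - k) • (I ^ k • ⊤ ⊓ 𝔞)) (b : 𝔞)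
    (hb' : (b : A) ∈ I ^ (i + k)) (m : M) :
    b ⊗ₜ[A] m ∈ (I ^ i • ⊤ : Submodule A (𝔞 ⊗[A] M)) := by
  have hb2 : (b : A) ∈ I ^ i • (I ^ k • ⊤ ⊓ 𝔞 : Submodule A A) := by
    have h1 := hk (i + k) (by omega)
    rw [Nat.add_sub_cancel] at h1
    rw [← h1]
    refine ⟨?_, b.2⟩
    rw [smul_eq_mul, Ideal.mul_top]
    exact hb'
  have key : ∀ (b : A) (hb2 : b ∈ I ^ i • (I ^ k • ⊤ ⊓ 𝔞 : Submodule A A)),
      ∃ hb : b ∈ 𝔞, (⟨b, hb⟩ : 𝔞) ⊗ₜ[A] m ∈ (I ^ i • ⊤ : Submodule A (𝔞 ⊗[A] M)) := by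
    intro b hb2
    induction hb2 using Submodule.smul_induction_on' with
    | smul r hr x hx =>
      refine ⟨𝔞.smul_mem r hx.2, ?_⟩
      have e1 : (⟨r • x, 𝔞.smul_mem r hx.2⟩ : 𝔞) ⊗ₜ[A] m = r • ((⟨x, hx.2⟩ : 𝔞) ⊗ₜ[A] m) := by
        rw [TensorProduct.smul_tmul']
        rfl
      rw [e1]
      exact Submodule.smul_mem_smul hr trivial
    | add x hx y hy ihx ihy =>
      obtain ⟨hx1, hx2⟩ := ihx
      obtain ⟨hy1, hy2⟩ := ihy
      refine ⟨𝔞.add_mem hx1 hy1, ?_⟩
      have e1 : (⟨x + y, 𝔞.add_mem hx1 hy1⟩ : 𝔞) ⊗ₜ[A] m =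
          (⟨x, hx1⟩ : 𝔞) ⊗ₜ[A] m + (⟨y, hy1⟩ : 𝔞) ⊗ₜ[A] m := by
        rw [← TensorProduct.add_tmul]
        rfl
      rw [e1]
      exact Submodule.add_mem _ hx2 hy2
  exact (key b hb2).2

/-- Local criterion of flatness for ideally separated modules, adic form. -/
theorem flat_of_ideallySeparated {A : Type u} [CommRing A] [IsNoetherianRing A]
    (I : Ideal A) (M : Type u) [AddCommGroup M] [Module A M]
    (hsep : ∀ a : Ideal A, IsHausdorff I (↥a ⊗[A] M))
    (h : ∀ n : ℕ, Module.Flat (A ⧸ I ^ n) ((A ⧸ I ^ n) ⊗[A] M)) : Module.Flat A M := by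
  rw [Module.Flat.iff_rTensor_injective']
  intro 𝔞
  rw [injective_iff_map_eq_zero]
  intro κ hκ
  refine (hsep 𝔞).haus κ fun i => ?_
  rw [SModEq.zero]
  obtain ⟨k, hk⟩ := Ideal.exists_pow_inf_eq_pow_smul I (M := A) 𝔞
  set n := i + k with hn
  let 𝔟 : Submodule A 𝔞 := Submodule.comap 𝔞.subtype (I ^ n)
  have := h n
  let K' : Submodule (A ⧸ I ^ n) (A ⧸ I ^ n) :=
    { carrier := Submodule.map (Submodule.mkQ (I ^ n)) 𝔞
      add_mem' := fun ha hb => Submodule.add_mem _ ha hb
      zero_mem' := Submodule.zero_mem _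
      smul_mem' := by
        intro c x hx
        obtain ⟨r, rfl⟩ := Ideal.Quotient.mk_surjective c
        exact Submodule.smul_mem (Submodule.map (Submodule.mkQ (I ^ n)) 𝔞) r hx }
  have hinj := Groth.Agent.Flat2D.NilpFlat.rTensor_injective_of_algebra (R := A) (M := M)
    (A ⧸ I ^ n) K'.subtype Subtype.val_injective
  let q : 𝔞 →ₗ[A] K' :=
    { toFun := fun x => ⟨Submodule.mkQ (I ^ n) x.1, ⟨x.1, x.2, rfl⟩⟩
      map_add' := fun x y => rfl
      map_smul' := fun r x => rfl }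
  have hq : Surjective q := by
    rintro ⟨_, ⟨x, hx, rfl⟩⟩
    exact ⟨⟨x, hx⟩, rfl⟩
  have hjq : Exact 𝔟.subtype q := by
    intro x
    constructor
    · intro hx
      have h1 : Submodule.mkQ (I ^ n) x.1 = 0 := congrArg Subtype.val hx
      rw [Submodule.mkQ_apply, Submodule.Quotient.mk_eq_zero] at h1
      exact ⟨⟨x, h1⟩, rfl⟩
    · rintro ⟨y, hy⟩
      rw [← hy]
      apply Subtype.ext
      change Submodule.mkQ (I ^ n) y.1.1 = 0
      rw [Submodule.mkQ_apply, Submodule.Quotient.mk_eq_zero]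
      exact y.2
  have hex := rTensor_exact M hjq hq
  have h1 : (q.rTensor M) κ = 0 := by
    apply hinj
    rw [map_zero]
    have comm1 : ((K'.subtype.restrictScalars A).rTensor M) ∘ₗ (q.rTensor M) =
        ((Submodule.mkQ (I ^ n)).rTensor M) ∘ₗ (𝔞.subtype.rTensor M) := by
      rw [← LinearMap.rTensor_comp, ← LinearMap.rTensor_comp]
      rfl
    have := LinearMap.congr_fun comm1 κ
    rw [LinearMap.comp_apply, LinearMap.comp_apply] at this
    rw [this, hκ, map_zero]
  obtain ⟨y, rfl⟩ := (hex _).1 h1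
  clear hκ h1 hex
  induction y using TensorProduct.induction_on with
  | zero => rw [map_zero]; exact Submodule.zero_mem _
  | add x y hx hy => rw [map_add]; exact Submodule.add_mem _ hx hy
  | tmul b m =>
    rw [LinearMap.rTensor_tmul, Submodule.subtype_apply]
    exact mem_pow_smul_of_mem I 𝔞 i k hk b.1 b.2 m

section Quot

variable {A : Type u} [CommRing A] (M : Type u) [AddCommGroup M] [Module A M]

/-- Flatness of a base change only depends on an intermediate base change. -/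
theorem flat_baseChange_of_flat (B C : Type u) [CommRing B] [CommRing C] [Algebra A B] [Algebra A C]
    [Algebra B C] [IsScalarTower A B C] [Module.Flat B (B ⊗[A] M)] : Module.Flat C (C ⊗[A] M) :=
  Module.Flat.of_linearEquiv
    (TensorProduct.AlgebraTensorModule.cancelBaseChange A B C C M).symm

theorem flat_baseChange_iff (B C : Type u) [CommRing B] [CommRing C] [Algebra A B] [Algebra A C]
    [Algebra B C] [IsScalarTower A B C] :
    Module.Flat C (C ⊗[B] (B ⊗[A] M)) ↔ Module.Flat C (C ⊗[A] M) :=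
  ⟨fun _ => Module.Flat.of_linearEquiv
    (TensorProduct.AlgebraTensorModule.cancelBaseChange A B C C M).symm,
   fun _ => Module.Flat.of_linearEquiv
    (TensorProduct.AlgebraTensorModule.cancelBaseChange A B C C M)⟩

theorem flat_quotient_of_le (I K : Ideal A) (h : I ≤ K) (hI : Module.Flat (A ⧸ I) ((A ⧸ I) ⊗[A] M)) :
    Module.Flat (A ⧸ K) ((A ⧸ K) ⊗[A] M) := by
  let _ : Algebra (A ⧸ I) (A ⧸ K) := (Ideal.Quotient.factor h).toAlgebra
  have : IsScalarTower A (A ⧸ I) (A ⧸ K) := IsScalarTower.of_algebraMap_eq' rfl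
  exact flat_baseChange_of_flat M (A ⧸ I) (A ⧸ K)

theorem flat_quotient_of_injective (J K : Ideal A) (n : ℕ) (hJK : J ^ n ≤ K)
    (hM : Module.Flat (A ⧸ J) ((A ⧸ J) ⊗[A] M)) {ι : Type u} [Finite ι] (B : ι → Type u)
    [∀ i, CommRing (B i)] [∀ i, Algebra A (B i)]
    (hB : ∀ a : A, (∀ i, algebraMap A (B i) a = 0) ↔ a ∈ K)
    (hBM : ∀ i, Module.Flat (B i) (B i ⊗[A] M)) : Module.Flat (A ⧸ K) ((A ⧸ K) ⊗[A] M) := by
  let _ : ∀ i, Algebra (A ⧸ K) (B i) := fun i =>
    (Ideal.Quotient.lift K (algebraMap A (B i)) (fun a ha => (hB a).mpr ha i)).toAlgebra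
  have : ∀ i, IsScalarTower A (A ⧸ K) (B i) := fun i => IsScalarTower.of_algebraMap_eq' rfl
  refine Groth.Agent.Ega43.NilpotentFlat.flat_of_nilpotent_of_injective ((A ⧸ K) ⊗[A] M) B
    (J.map (Ideal.Quotient.mk K)) ⟨n, ?_⟩ ?_ ?_ ?_
  · rw [← Ideal.map_pow, Submodule.zero_eq_bot, eq_bot_iff, Ideal.map_le_iff_le_comap]
    intro a ha
    rw [Ideal.mem_comap, Ideal.mem_bot, Ideal.Quotient.eq_zero_iff_mem]
    exact hJK ha
  · intro a ha
    obtain ⟨a, rfl⟩ := Ideal.Quotient.mk_surjective a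
    rw [Ideal.Quotient.eq_zero_iff_mem]
    exact (hB a).mp ha
  · rw [flat_baseChange_iff]
    let _ : Algebra (A ⧸ J) ((A ⧸ K) ⧸ J.map (Ideal.Quotient.mk K)) :=
      (Ideal.Quotient.lift J (algebraMap A ((A ⧸ K) ⧸ J.map (Ideal.Quotient.mk K))) (fun a ha => by
        rw [IsScalarTower.algebraMap_apply A (A ⧸ K)]
        exact Ideal.Quotient.eq_zero_iff_mem.mpr (Ideal.mem_map_of_mem _ ha))).toAlgebra
    have : IsScalarTower A (A ⧸ J) ((A ⧸ K) ⧸ J.map (Ideal.Quotient.mk K)) :=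
      IsScalarTower.of_algebraMap_eq' rfl
    exact flat_baseChange_of_flat M (A ⧸ J) _
  · intro i
    rw [flat_baseChange_iff]
    exact hBM i

/-- Base change of a flat localization to a quotient of the local ring. -/
theorem flat_quotient_localization (p : Ideal A) [p.IsPrime] (I : Ideal (Localization.AtPrime p))
    (h : Module.Flat (Localization.AtPrime p) (LocalizedModule p.primeCompl M)) :
    Module.Flat (Localization.AtPrime p ⧸ I) ((Localization.AtPrime p ⧸ I) ⊗[A] M) := by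
  have h1 : Module.Flat (Localization.AtPrime p) (Localization.AtPrime p ⊗[A] M) :=
    Module.Flat.of_linearEquiv (LocalizedModule.equivTensorProduct p.primeCompl M).symm
  exact flat_baseChange_of_flat M (Localization.AtPrime p) _

end Quot

section Symbolic

variable {A : Type u} [CommRing A] [IsNoetherianRing A] (J : Ideal A) (M : Type u) [AddCommGroup M]
  [Module A M]

theorem flat_of_symbolicPowers (hsep : ∀ a : Ideal A, IsHausdorff J (↥a ⊗[A] M))
    {r : ℕ} (p : Fin r → Ideal A) [∀ i, (p i).IsPrime] (hp : ∀ i, J ≤ p i)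
    (htop : ∀ n : ℕ, ∃ m : ℕ,
      ⨅ i, Ideal.comap (algebraMap A (Localization.AtPrime (p i)))
        (IsLocalRing.maximalIdeal (Localization.AtPrime (p i)) ^ m) ≤ J ^ n)
    (h1 : Module.Flat (A ⧸ J) ((A ⧸ J) ⊗[A] M))
    (h2 : ∀ i, Module.Flat (Localization.AtPrime (p i)) (LocalizedModule (p i).primeCompl M)) :
    Module.Flat A M := by
  refine flat_of_ideallySeparated J M hsep fun n => ?_
  obtain ⟨m, hm⟩ := htop n
  refine flat_quotient_of_le M _ _ hm ?_
  refine flat_quotient_of_injective (ι := ULift.{u} (Fin r)) M J _ m ?_ h1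
    (fun i => Localization.AtPrime (p i.down) ⧸
      IsLocalRing.maximalIdeal (Localization.AtPrime (p i.down)) ^ m) ?_
    fun i => flat_quotient_localization M _ _ (h2 i.down)
  · refine le_iInf fun i => ?_
    rw [← Ideal.map_le_iff_le_comap, Ideal.map_pow]
    refine Ideal.pow_right_mono ?_ m
    rw [Ideal.map_le_iff_le_comap]
    intro a ha
    rw [Ideal.mem_comap]
    exact (IsLocalization.AtPrime.to_map_mem_maximal_iff _ (p i) a).mpr (hp i ha)
  · intro a
    rw [Submodule.mem_iInf]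
    constructor
    · intro h i
      rw [Ideal.mem_comap]
      exact (Submodule.Quotient.mk_eq_zero _).mp (h ⟨i⟩)
    · intro h i
      exact (Submodule.Quotient.mk_eq_zero _).mpr (Ideal.mem_comap.mp (h i.down))

end Symbolic

section Gr

variable {A : Type u} [CommRing A] [IsNoetherianRing A] (J : Ideal A) (M : Type u) [AddCommGroup M]
  [Module A M]

/-- An element of a flat `A / J`-module killed by an element outside each associated prime of `A / J` is zero. -/
theorem eq_zero_of_forall_exists_smul {N : Type u} [AddCommGroup N] [Module A N] [Module (A ⧸ J) N]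
    [IsScalarTower A (A ⧸ J) N] [Module.Flat (A ⧸ J) N] (x : N)
    (hx : ∀ q ∈ associatedPrimes A (A ⧸ J), ∃ s ∉ q, s • x = 0) : x = 0 := by
  -- the annihilator of `x` contains a nonzerodivisor of `A / J`
  have hfin : (associatedPrimes A (A ⧸ J)).Finite := associatedPrimes.finite A (A ⧸ J)
  obtain ⟨s, hs, hs2⟩ : ∃ s : A, s • x = 0 ∧ ∀ q ∈ associatedPrimes A (A ⧸ J), s ∉ q := by
    let I : Ideal A := Submodule.colon ⊥ {x}
    have hI : ∀ a, a ∈ I ↔ a • x = 0 := fun a => by
      rw [Submodule.mem_colon_singleton, Submodule.mem_bot]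
    by_contra hcon
    push Not at hcon
    have h1 : (I : Set A) ⊆ ⋃ q ∈ hfin.toFinset, (id q : Ideal A) := by
      intro a ha
      obtain ⟨q, hq, haq⟩ := hcon a ((hI a).mp ha)
      simp only [Set.mem_iUnion]
      exact ⟨q, hfin.mem_toFinset.mpr hq, haq⟩
    have hprime : ∀ q ∈ hfin.toFinset, q ≠ ⊤ → q ≠ ⊤ → (id q : Ideal A).IsPrime := by
      intro q hq _ _
      exact IsAssociatedPrime.isPrime (hfin.mem_toFinset.mp hq)
    obtain ⟨q, hq, hle⟩ := (Ideal.subset_union_prime (f := id) ⊤ ⊤ hprime).mp h1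
    obtain ⟨s, hs, hsx⟩ := hx q (hfin.mem_toFinset.mp hq)
    exact hs (hle ((hI s).mpr hsx))
  have hreg : IsSMulRegular (A ⧸ J) s := by
    have h1 := biUnion_associatedPrimes_eq_compl_regular A (A ⧸ J)
    by_contra hcon
    have h2 : s ∈ ⋃ q ∈ associatedPrimes A (A ⧸ J), (q : Set A) := by
      rw [h1]
      exact hcon
    simp only [Set.mem_iUnion] at h2
    obtain ⟨q, hq, hsq⟩ := h2
    exact hs2 q hq hsq
  have hreg2 : IsSMulRegular (A ⧸ J) (Ideal.Quotient.mk J s) := by
    intro a b hab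
    exact hreg (by
      change s • a = s • b
      have e1 : ∀ c : A ⧸ J, s • c = Ideal.Quotient.mk J s • c := fun c => Algebra.smul_def s c
      rw [e1, e1]
      exact hab)
  have hreg3 : IsSMulRegular N (Ideal.Quotient.mk J s) := by
    refine Module.Flat.isSMulRegular_of_isRegular ⟨?_, ?_⟩
    · intro a b hab
      exact hreg2 hab
    · intro a b hab
      refine hreg2 ?_
      change Ideal.Quotient.mk J s * a = Ideal.Quotient.mk J s * b
      rw [mul_comm _ a, mul_comm _ b]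
      exact hab
  apply hreg3
  change Ideal.Quotient.mk J s • x = Ideal.Quotient.mk J s • 0
  rw [smul_zero]
  have e1 : Ideal.Quotient.mk J s • x = s • x := algebraMap_smul (A ⧸ J) s x
  rw [e1, hs]

omit [IsNoetherianRing A] in
theorem one_tmul_eq_zero_iff (n : ℕ) (y : ↥(J ^ n)) :
    (1 : A ⧸ J) ⊗ₜ[A] y = 0 ↔ (y : A) ∈ J ^ (n + 1) := by
  have h1 : (J • ⊤ : Submodule A ↥(J ^ n)).map (J ^ n).subtype = J ^ (n + 1) := by
    rw [Submodule.map_smul'', Submodule.map_subtype_top, pow_succ']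
    rfl
  rw [← (TensorProduct.quotTensorEquivQuotSMul ↥(J ^ n) J).map_eq_zero_iff]
  have h2 : (TensorProduct.quotTensorEquivQuotSMul ↥(J ^ n) J) ((1 : A ⧸ J) ⊗ₜ[A] y) =
      Submodule.Quotient.mk y := TensorProduct.quotTensorEquivQuotSMul_mk_one_tmul J y
  rw [h2, Submodule.Quotient.mk_eq_zero, ← h1]
  constructor
  · intro h
    exact ⟨y, h, rfl⟩
  · rintro ⟨z, hz, hzy⟩
    have : z = y := Subtype.ext hzy
    rwa [← this]

theorem mem_pow_of_forall (hgr : ∀ k : ℕ, Module.Flat (A ⧸ J) ((A ⧸ J) ⊗[A] ↥(J ^ k))) (n : ℕ) (a : A)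
    (ha : ∀ q ∈ associatedPrimes A (A ⧸ J), ∃ s ∉ q, s * a ∈ J ^ n) : a ∈ J ^ n := by
  induction n with
  | zero => simp
  | succ n ih =>
    have h1 : a ∈ J ^ n := ih fun q hq => by
      obtain ⟨s, hs, h⟩ := ha q hq
      exact ⟨s, hs, Ideal.pow_le_pow_right (Nat.le_succ n) h⟩
    -- the class of `a` in `J^n / J^{n+1}`
    have := hgr n
    have h2 : (1 : A ⧸ J) ⊗ₜ[A] (⟨a, h1⟩ : ↥(J ^ n)) = 0 := by
      refine eq_zero_of_forall_exists_smul J _ fun q hq => ?_
      obtain ⟨s, hs, h⟩ := ha q hq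
      refine ⟨s, hs, ?_⟩
      rw [← TensorProduct.tmul_smul, one_tmul_eq_zero_iff]
      exact h
    exact (one_tmul_eq_zero_iff J n _).mp h2

theorem flat_of_gr_flat (hsep : ∀ a : Ideal A, IsHausdorff J (↥a ⊗[A] M))
    (hgr : ∀ k : ℕ, Module.Flat (A ⧸ J) ((A ⧸ J) ⊗[A] ↥(J ^ k)))
    (h1 : Module.Flat (A ⧸ J) ((A ⧸ J) ⊗[A] M))
    (h2 : ∀ q : associatedPrimes A (A ⧸ J),
      haveI : q.1.IsPrime := IsAssociatedPrime.isPrime q.2
      Module.Flat (Localization.AtPrime q.1) (LocalizedModule q.1.primeCompl M)) :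
    Module.Flat A M := by
  have hfin : Finite (associatedPrimes A (A ⧸ J)) := (associatedPrimes.finite A (A ⧸ J)).to_subtype
  have hp : ∀ q : associatedPrimes A (A ⧸ J), q.1.IsPrime := fun q => IsAssociatedPrime.isPrime q.2
  refine flat_of_ideallySeparated J M hsep fun n => ?_
  refine flat_quotient_of_injective (ι := associatedPrimes A (A ⧸ J)) M J (J ^ n) n le_rfl h1
    (fun q => Localization.AtPrime q.1 ⧸ (J ^ n).map (algebraMap A (Localization.AtPrime q.1))) ?_
    fun q => flat_quotient_localization M _ _ (h2 q)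
  intro a
  have key : ∀ q : associatedPrimes A (A ⧸ J),
      algebraMap A (Localization.AtPrime q.1 ⧸ (J ^ n).map (algebraMap A (Localization.AtPrime q.1))) a = 0 ↔
        ∃ s ∉ q.1, s * a ∈ J ^ n := by
    intro q
    have h3 : algebraMap A (Localization.AtPrime q.1 ⧸ (J ^ n).map (algebraMap A (Localization.AtPrime q.1))) a = 0 ↔
        algebraMap A (Localization.AtPrime q.1) a ∈ (J ^ n).map (algebraMap A (Localization.AtPrime q.1)) :=
      Submodule.Quotient.mk_eq_zero _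
    rw [h3, IsLocalization.algebraMap_mem_map_algebraMap_iff q.1.primeCompl]
    rfl
  constructor
  · intro h
    exact mem_pow_of_forall J hgr n a fun q hq => (key ⟨q, hq⟩).mp (h ⟨q, hq⟩)
  · intro h q
    refine (key q).mpr ⟨1, ?_, ?_⟩
    · exact fun h1 => (hp q).ne_top (Ideal.eq_top_of_isUnit_mem _ h1 isUnit_one)
    · rwa [one_mul]

end Gr

end K130.FlatSep
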