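import Mathlib.Topology.NoetherianSpace
import Groth.Agent.S4886

/-!
Closed injective endomaps of Noetherian spaces are surjective; finite stable sets of closed points on a
scheme of finite type over the integers.
-/

universe u

noncomputable section

namespace K130.RadFin

open TopologicalSpace CategoryTheory Limits AlgebraicGeometry

theorem surjective_of_isClosedMap {T : Type*} [TopologicalSpace T] [NoetherianSpace T] (H : T → T)
    (hcl : IsClosedMap H) (hinj : Function.Injective H) : Function.Surjective H := by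
  have hc : ∀ n : ℕ, IsClosed (Set.range H^[n]) := by
    intro n
    induction n with
    | zero => simp
    | succ n ih =>
      rw [Function.iterate_succ', Set.range_comp]
      exact hcl _ ih
  have hwf : WellFounded fun s t : Closeds T => s < t := (inferInstance : WellFoundedLT (Closeds T)).wf
  obtain ⟨m, ⟨n, rfl⟩, hm⟩ := hwf.has_min (Set.range fun n : ℕ => (⟨Set.range H^[n], hc n⟩ : Closeds T))
    ⟨_, ⟨0, rfl⟩⟩
  have h1 : Set.range H^[n + 1] = Set.range H^[n] := by
    have h2 : Set.range H^[n + 1] ⊆ Set.range H^[n] := by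
      rw [Function.iterate_succ]
      exact Set.range_comp_subset_range _ _
    by_contra hne
    exact hm _ ⟨n + 1, rfl⟩ (lt_of_le_of_ne h2 fun h => hne congr(($h : Set T)))
  intro t
  have h2 : H^[n] t ∈ Set.range H^[n + 1] := h1 ▸ ⟨t, rfl⟩
  obtain ⟨s, hs⟩ := h2
  rw [Function.iterate_succ_apply] at hs
  exact ⟨s, (hinj.iterate n) hs⟩

theorem exists_surjective {C : Type*} [Finite C] (T : C → Type*) [∀ x, TopologicalSpace (T x)]
    [∀ x, NoetherianSpace (T x)] [∀ x, Nonempty (T x)] (f : C → C) (hf : Function.Injective f)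
    (φ : ∀ x, T x → T (f x)) (hφ : ∀ x, IsClosedMap (φ x)) (hinj : ∀ x, Function.Injective (φ x))
    (y : C) : ∃ x, f x = y ∧ Function.Surjective (φ x) := by
  have hN : NoetherianSpace (Σ x, T x) := by
    rw [← noetherian_univ_iff]
    have h1 : (Set.univ : Set (Σ x, T x)) = ⋃ x, Set.range (Sigma.mk x) := by
      ext ⟨x, t⟩
      simp
    rw [h1]
    have : ∀ x, NoetherianSpace (Set.range (Sigma.mk x : T x → Σ x, T x)) := fun x =>
      NoetherianSpace.range _ continuous_sigmaMk
    exact NoetherianSpace.iUnion _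
  have h1 : IsClosedMap (Sigma.map f φ : (Σ x, T x) → Σ x, T x) := by
    intro K hK
    rw [isClosed_sigma_iff]
    intro y
    by_cases hy : ∃ x, f x = y
    · obtain ⟨x, rfl⟩ := hy
      have h2 : Sigma.mk (f x) ⁻¹' (Sigma.map f φ '' K) = φ x '' (Sigma.mk x ⁻¹' K) := by
        ext t
        constructor
        · rintro ⟨⟨x', s⟩, hs, he⟩
          rw [Sigma.map, Sigma.mk.injEq] at he
          obtain ⟨he1, he2⟩ := he
          obtain rfl := hf he1
          exact ⟨s, hs, eq_of_heq he2⟩
        · rintro ⟨s, hs, rfl⟩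
          exact ⟨⟨x, s⟩, hs, rfl⟩
      rw [h2]
      exact hφ x _ (hK.preimage continuous_sigmaMk)
    · have h2 : Sigma.mk y ⁻¹' (Sigma.map f φ '' K) = ∅ := by
        ext t
        simp only [Set.mem_preimage, Set.mem_image, Set.mem_empty_iff_false, iff_false]
        rintro ⟨⟨x', s⟩, hs, he⟩
        rw [Sigma.map, Sigma.mk.injEq] at he
        exact hy ⟨x', he.1⟩
      rw [h2]
      exact isClosed_empty
  have h2 : Function.Surjective (Sigma.map f φ : (Σ x, T x) → Σ x, T x) :=
    surjective_of_isClosedMap _ h1 (hf.sigma_map hinj)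
  obtain ⟨t⟩ : Nonempty (T y) := inferInstance
  obtain ⟨⟨x, s⟩, hs⟩ := h2 ⟨y, t⟩
  rw [Sigma.map, Sigma.mk.injEq] at hs
  obtain ⟨rfl, -⟩ := hs
  refine ⟨x, rfl, fun t => ?_⟩
  obtain ⟨⟨x', s'⟩, hs'⟩ := h2 ⟨f x, t⟩
  rw [Sigma.map, Sigma.mk.injEq] at hs'
  obtain ⟨hs1, hs2⟩ := hs'
  obtain rfl := hf hs1
  exact ⟨s', eq_of_heq hs2⟩

/-- On a scheme of finite type over the integers, every closed point lies in a finite set stable under all
endomorphisms. -/
theorem exists_finite_stable (X : Scheme.{u}) [CompactSpace X]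
    [LocallyOfFiniteType (Limits.IsTerminal.from specULiftZIsTerminal X)] (y : X)
    (hy : IsClosed ({y} : Set X)) :
    ∃ C : Set X, C.Finite ∧ y ∈ C ∧ ∀ (f : X ⟶ X), ∀ x ∈ C, f x ∈ C := by
  obtain ⟨h1, h2⟩ := Groth.Agent.S4886.result X
  have hfin : Finite (X.residueField y) := (h1 y).mp hy
  obtain ⟨p, hp⟩ := CharP.exists (X.residueField y)
  have hp' : Fact p.Prime := ⟨CharP.char_is_prime (X.residueField y) p⟩
  have : Fintype (X.residueField y) := Fintype.ofFinite _
  obtain ⟨n, hn, hcard⟩ := FiniteField.card (X.residueField y) p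
  refine ⟨_, h2 p n n.2, ?_, ?_⟩
  · let := ZMod.algebra (X.residueField y) p
    have e := GaloisField.algEquivGaloisField p n (K := X.residueField y) (by
      rw [Nat.card_eq_fintype_card, hcard])
    exact ⟨e.toRingEquiv.toRingHom⟩
  · rintro f x ⟨g⟩
    exact ⟨g.comp (f.residueFieldMap x).hom⟩

end K130.RadFin
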