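import Groth.Agent.EGA43.K130.RadHensAlg
import Groth.Agent.S0506
import Groth.Agent.S0509
import Groth.Agent.S0511
import Groth.Agent.FlatA.UnivHomeo
import Groth.Agent.Sga3C.FlatPt
import Mathlib.AlgebraicGeometry.Morphisms.QuasiFinite

/-!
The spectrum of the henselization of a stalk, and functoriality for universally injective morphisms which
are locally of finite type.
-/

universe u

noncomputable section

namespace K130.RadHens

open IsLocalRing TensorProduct CategoryTheory Limits AlgebraicGeometry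

/-- A henselization of the stalk of `X` at `x`. -/
structure HensAt (X : Scheme.{u}) (x : X) where
  A : Type u
  [cr : CommRing A]
  [lr : IsLocalRing A]
  [alg : Algebra (X.presheaf.stalk x) A]
  [loc : IsLocalHom (algebraMap (X.presheaf.stalk x) A)]
  [hens : Hensel.IsHenselization (X.presheaf.stalk x) A]

attribute [instance] HensAt.cr HensAt.lr HensAt.alg HensAt.loc HensAt.hens

theorem nonempty_hensAt (X : Scheme.{u}) (x : X) : Nonempty (HensAt X x) := by
  obtain ⟨A, _, _, _, _, _⟩ := Groth.Agent.S0506.result (X.presheaf.stalk x)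
  exact ⟨{ A := A }⟩

variable {X Y : Scheme.{u}} {x : X} {y : Y}

namespace HensAt

/-- The map `Spec A → X`. -/
def toX (H : HensAt X x) : Spec (CommRingCat.of H.A) ⟶ X :=
  Spec.map (CommRingCat.ofHom (algebraMap (X.presheaf.stalk x) H.A)) ≫ X.fromSpecStalk x

instance (H : HensAt X x) : Flat H.toX := by
  have h1 : Module.FaithfullyFlat (X.presheaf.stalk x) H.A := Groth.Agent.S0509.result _ _
  have h2 : Flat (Spec.map (CommRingCat.ofHom (algebraMap (X.presheaf.stalk x) H.A))) := by
    rw [Flat.SpecMap_iff]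
    exact RingHom.flat_algebraMap_iff.mpr inferInstance
  have h3 : Flat (X.fromSpecStalk x) := Groth.Agent.Sga3C.FlatPt.flat_fromSpecStalk X x
  unfold toX
  infer_instance

theorem toX_closedPoint (H : HensAt X x) : H.toX (closedPoint H.A) = x := by
  rw [toX, Scheme.Hom.comp_apply]
  have h1 : Spec.map (CommRingCat.ofHom (algebraMap (X.presheaf.stalk x) H.A)) (closedPoint H.A) =
      closedPoint (X.presheaf.stalk x) :=
    IsLocalRing.comap_closedPoint (algebraMap (X.presheaf.stalk x) H.A)
  rw [h1, Scheme.fromSpecStalk_closedPoint]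

instance [IsLocallyNoetherian X] (H : HensAt X x) : IsNoetherianRing H.A :=
  (Groth.Agent.S0511.result (X.presheaf.stalk x) H.A).mp inferInstance

/-- The map of henselizations induced by a morphism. -/
theorem exists_map (f : X ⟶ Y) (x : X) (H : HensAt X x) (K : HensAt Y (f x)) :
    ∃ g : K.A →+* H.A, g.comp (algebraMap (Y.presheaf.stalk (f x)) K.A) =
      (algebraMap (X.presheaf.stalk x) H.A).comp (f.stalkMap x).hom := by
  have : HenselianLocalRing H.A := Hensel.IsHenselization.henselian (X.presheaf.stalk x)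
  obtain ⟨g, hg, -⟩ := Hensel.IsHenselization.universal (R := Y.presheaf.stalk (f x)) (S := K.A) H.A
    ((algebraMap (X.presheaf.stalk x) H.A).comp (f.stalkMap x).hom) inferInstance
  exact ⟨g, hg⟩

end HensAt

/-- For `f` universally injective and locally of finite type, the spectrum of the henselization at `x` maps
to the one at `f x` by a finite injective morphism, compatibly with `f`. -/
theorem exists_hensMap (f : X ⟶ Y) [LocallyOfFiniteType f] [UniversallyInjective f] (x : X)
    (H : HensAt X x) (K : HensAt Y (f x)) :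
    ∃ φ : Spec (CommRingCat.of H.A) ⟶ Spec (CommRingCat.of K.A),
      φ ≫ K.toX = H.toX ≫ f ∧ IsFinite φ ∧ Function.Injective φ := by
  obtain ⟨g, hg⟩ := HensAt.exists_map f x H K
  refine ⟨Spec.map (CommRingCat.ofHom g), ?_, ?_⟩
  · rw [HensAt.toX, HensAt.toX, ← Spec.map_comp_assoc, Category.assoc,
      ← Scheme.SpecMap_stalkMap_fromSpecStalk, ← Spec.map_comp_assoc]
    congr 2
    ext1
    exact hg
  · suffices h : g.Finite ∧ Function.Injective (PrimeSpectrum.comap g) by
      exact ⟨(IsFinite.SpecMap_iff _).mpr h.1, h.2⟩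
    obtain ⟨_, ⟨V, hV, rfl⟩, hxV, -⟩ :=
      Y.isBasis_affineOpens.exists_subset_of_mem_open (Set.mem_univ (f x)) isOpen_univ
    obtain ⟨_, ⟨U, hU, rfl⟩, hxU, hUV⟩ :=
      X.isBasis_affineOpens.exists_subset_of_mem_open (a := x) (u := ((f ⁻¹ᵁ V : X.Opens) : Set X))
        hxV (f ⁻¹ᵁ V).2
    have hUV' : U ≤ f ⁻¹ᵁ V := hUV
    let := Y.presheaf.algebra_section_stalk ⟨f x, hUV' hxU⟩
    have := hV.isLocalization_stalk ⟨f x, hUV' hxU⟩
    let := X.presheaf.algebra_section_stalk ⟨x, hxU⟩
    have := hU.isLocalization_stalk ⟨x, hxU⟩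
    let := (f.appLE V U hUV').hom.toAlgebra
    have hui : UniversallyInjective (Spec.map (f.appLE V U hUV')) := by
      have h1 : UniversallyInjective (Spec.map (f.appLE V U hUV') ≫ hV.fromSpec) := by
        rw [IsAffineOpen.SpecMap_appLE_fromSpec f hV hU hUV']
        exact MorphismProperty.comp_mem _ _ _ inferInstance inferInstance
      exact Groth.Agent.FlatA.UnivHomeo.universallyInjective_of_comp _ hV.fromSpec
    have : Algebra.FiniteType Γ(Y, V) Γ(X, U) := f.finiteType_appLE hV hU hUV'
    have : Algebra.QuasiFinite Γ(Y, V) Γ(X, U) :=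
      LocallyQuasiFinite.quasiFinite_appLE (f := f) hV hU hUV'
    have hlo : (hU.primeIdealOf ⟨x, hxU⟩).asIdeal.LiesOver (hV.primeIdealOf ⟨f x, hUV' hxU⟩).asIdeal :=
      ⟨congr($(IsAffineOpen.comap_primeIdealOf_appLE V hV U hU hUV' hxU).1).symm⟩
    let : Algebra Γ(Y, V) K.A := ((algebraMap (Y.presheaf.stalk (f x)) K.A).comp
      (Y.presheaf.germ V (f x) (hUV' hxU)).hom).toAlgebra
    have : IsScalarTower Γ(Y, V) (Y.presheaf.stalk (f x)) K.A := IsScalarTower.of_algebraMap_eq fun _ => rfl
    refine RadHensAlg.finite_and_injective (hV.primeIdealOf ⟨f x, hUV' hxU⟩).asIdeal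
      (hU.primeIdealOf ⟨x, hxU⟩).asIdeal (Y.presheaf.stalk (f x)) (X.presheaf.stalk x) K.A H.A g ?_ ?_
    · rw [RingHom.algebraMap_toAlgebra, ← RingHom.comp_assoc, hg, RingHom.comp_assoc, RingHom.comp_assoc]
      congr 1
      rw [RingHom.algebraMap_toAlgebra, RingHom.algebraMap_toAlgebra, ← CommRingCat.hom_comp,
        ← CommRingCat.hom_comp, Scheme.Hom.germ_stalkMap, ← X.presheaf.germ_res (homOfLE hUV') x hxU,
        Scheme.Hom.app_eq_appLE, Scheme.Hom.appLE_map_assoc]
    · have h1 := isPullback_SpecMap_of_isPushout _ _ _ _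
        (CommRingCat.isPushout_tensorProduct Γ(Y, V) K.A Γ(X, U))
      have h2 : UniversallyInjective (Spec.map (CommRingCat.ofHom (S := K.A ⊗[Γ(Y, V)] Γ(X, U))
          Algebra.TensorProduct.includeLeftRingHom)) :=
        MorphismProperty.of_isPullback (P := @UniversallyInjective) h1.flip hui
      exact (Spec.map (CommRingCat.ofHom (S := K.A ⊗[Γ(Y, V)] Γ(X, U))
          Algebra.TensorProduct.includeLeftRingHom)).injective

end K130.RadHens
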