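import Groth.Agent.Hensel.K141.FiniteLoc

/-!
The map of henselizations of a quasi-finite universally injective ring map: finite, with injective map of
spectra.
-/

universe u

noncomputable section

namespace K130.RadHensAlg

open IsLocalRing TensorProduct K141.FiniteLoc K141

theorem isLocalHom_toRingHom {A B : Type*} [CommRing A] [CommRing B] (e : A ≃+* B) :
    IsLocalHom e.toRingHom :=
  ⟨fun x hx => by
    have h : IsUnit (e.symm (e x)) := IsUnit.map e.symm hx
    rwa [e.symm_apply_apply] at h⟩

variable {R S : Type u} [CommRing R] [CommRing S] [Algebra R S] (p : Ideal R) [p.IsPrime]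
  (q : Ideal S) [q.IsPrime] [q.LiesOver p]
  (Rh : Type u) [CommRing Rh] [IsLocalRing Rh] [Algebra (Localization.AtPrime p) Rh]
  [IsLocalHom (algebraMap (Localization.AtPrime p) Rh)] [Algebra R Rh]
  [IsScalarTower R (Localization.AtPrime p) Rh]
  (Sh : Type u) [CommRing Sh] [IsLocalRing Sh] [Algebra (Localization.AtPrime q) Sh]
  [IsLocalHom (algebraMap (Localization.AtPrime q) Sh)] [Algebra S Sh]
  [IsScalarTower S (Localization.AtPrime q) Sh]

/-- The map of spectra of the henselizations is injective if `Spec S → Spec R` is so after base change to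
`R_p^h`. -/
theorem injective_comap [Algebra.FiniteType R S] [Algebra.QuasiFiniteAt R q]
    [Hensel.IsHenselization (Localization.AtPrime p) Rh]
    [Hensel.IsHenselization (Localization.AtPrime q) Sh] (g : Rh →+* Sh)
    (hg : g.comp (algebraMap R Rh) = (algebraMap S Sh).comp (algebraMap R S))
    (hinj : Function.Injective (PrimeSpectrum.comap (algebraMap Rh (Rh ⊗[R] S)))) :
    Function.Injective (PrimeSpectrum.comap g) := by
  have hRh : HenselianLocalRing Rh := Hensel.IsHenselization.henselian (Localization.AtPrime p)
  have hgl := isLocalHom_of_map_maximalIdeal p q Rh Sh g hg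
    (Groth.Agent.Hensel.Exist.map_maximalIdeal_of_isHenselization _ _)
  obtain ⟨φ, hφ1, hφ2⟩ := exists_tensor_map Rh Sh g hg
  have h1 := liesOver_maximalIdeal Rh Sh g φ hφ1
  have h2 := Algebra.QuasiFiniteAt.baseChange (R := R) q (A := Rh) ((maximalIdeal Sh).comap φ)
    (comap_includeRight q Rh Sh φ hφ2)
  have h3 := finite_localization (R := Rh) ((maximalIdeal Sh).comap φ)
  obtain ⟨_, _, h4, h5⟩ := TensorLoc.exists_isHenselization p q Rh Sh φ hφ2
    ((maximalIdeal Sh).comap φ) (fun d => Iff.rfl)
  have h6 : HenselianLocalRing (Localization.AtPrime ((maximalIdeal Sh).comap φ)) :=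
    Groth.Agent.UnramB.IntHensel.henselianLocalRing_of_isIntegral Rh _
  have h7 := TensorLoc.bijective_of_isHenselization
    (Localization.AtPrime ((maximalIdeal Sh).comap φ)) Sh
  have h8 : g = ((algebraMap (Localization.AtPrime ((maximalIdeal Sh).comap φ)) Sh).comp
      (algebraMap (Rh ⊗[R] S) _)).comp (algebraMap Rh (Rh ⊗[R] S)) := by
    rw [h5]
    ext x
    exact (hφ1 x).symm
  rw [h8]
  intro x y hxy
  rw [PrimeSpectrum.comap_comp_apply, PrimeSpectrum.comap_comp_apply _ _ y] at hxy
  have hxy' := hinj hxy
  rw [PrimeSpectrum.comap_comp_apply, PrimeSpectrum.comap_comp_apply _ _ y] at hxy'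
  exact PrimeSpectrum.comap_injective_of_surjective _ h7.2
    (PrimeSpectrum.localization_comap_injective _ ((maximalIdeal Sh).comap φ).primeCompl hxy')

/-- The same, with arbitrary localizations in place of the standard ones: the map of henselizations is
finite, and injective on spectra. -/
theorem finite_and_injective (A B : Type u) [CommRing A] [IsLocalRing A] [Algebra R A]
    [IsLocalization.AtPrime A p] [CommRing B] [IsLocalRing B] [Algebra S B]
    [IsLocalization.AtPrime B q] (Ah Bh : Type u) [CommRing Ah] [IsLocalRing Ah] [Algebra A Ah]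
    [IsLocalHom (algebraMap A Ah)] [Hensel.IsHenselization A Ah] [CommRing Bh] [IsLocalRing Bh]
    [Algebra B Bh] [IsLocalHom (algebraMap B Bh)] [Hensel.IsHenselization B Bh]
    [Algebra.FiniteType R S] [Algebra.QuasiFiniteAt R q] [Algebra R Ah] [IsScalarTower R A Ah]
    (g : Ah →+* Bh)
    (hg : g.comp (algebraMap R Ah) =
      ((algebraMap B Bh).comp (algebraMap S B)).comp (algebraMap R S))
    (hinj : Function.Injective (PrimeSpectrum.comap (algebraMap Ah (Ah ⊗[R] S)))) :
    g.Finite ∧ Function.Injective (PrimeSpectrum.comap g) := by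
  let eA : Localization.AtPrime p ≃ₐ[R] A := IsLocalization.algEquiv p.primeCompl _ _
  let eB : Localization.AtPrime q ≃ₐ[S] B := IsLocalization.algEquiv q.primeCompl _ _
  let a1 : Algebra (Localization.AtPrime p) Ah :=
    ((algebraMap A Ah).comp eA.toRingEquiv.toRingHom).toAlgebra
  let b1 : Algebra (Localization.AtPrime q) Bh :=
    ((algebraMap B Bh).comp eB.toRingEquiv.toRingHom).toAlgebra
  let b2 : Algebra S Bh := ((algebraMap B Bh).comp (algebraMap S B)).toAlgebra
  have a2 : IsScalarTower R (Localization.AtPrime p) Ah := IsScalarTower.of_algebraMap_eq fun r => by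
    change _ = algebraMap A Ah (eA (algebraMap R (Localization.AtPrime p) r))
    rw [AlgEquiv.commutes, ← IsScalarTower.algebraMap_apply]
  have b3 : IsScalarTower S (Localization.AtPrime q) Bh := IsScalarTower.of_algebraMap_eq fun r => by
    change algebraMap B Bh (algebraMap S B r) = algebraMap B Bh (eB (algebraMap S (Localization.AtPrime q) r))
    rw [AlgEquiv.commutes]
  have a4 : IsLocalHom (algebraMap (Localization.AtPrime p) Ah) := by
    change IsLocalHom ((algebraMap A Ah).comp eA.toRingEquiv.toRingHom)
    have : IsLocalHom eA.toRingEquiv.toRingHom := isLocalHom_toRingHom _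
    infer_instance
  have b4 : IsLocalHom (algebraMap (Localization.AtPrime q) Bh) := by
    change IsLocalHom ((algebraMap B Bh).comp eB.toRingEquiv.toRingHom)
    have : IsLocalHom eB.toRingEquiv.toRingHom := isLocalHom_toRingHom _
    infer_instance
  have a5 : Hensel.IsHenselization (Localization.AtPrime p) Ah :=
    { henselian := Hensel.IsHenselization.henselian A
      universal := by
        intro T _ _ f hf
        have : IsLocalHom eA.symm.toRingEquiv.toRingHom := isLocalHom_toRingHom _
        obtain ⟨g, hg1, hg2⟩ := Hensel.IsHenselization.universal (R := A) (S := Ah) T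
          (f.comp eA.symm.toRingEquiv.toRingHom) inferInstance
        refine ⟨g, ?_, fun g' hg' => hg2 g' ?_⟩
        · change g.comp ((algebraMap A Ah).comp eA.toRingEquiv.toRingHom) = f
          rw [← RingHom.comp_assoc]
          erw [hg1]
          ext x
          simp
        · change g'.comp ((algebraMap A Ah).comp eA.toRingEquiv.toRingHom) = f at hg'
          change g'.comp (algebraMap A Ah) = _
          rw [← hg']
          ext x
          simp }
  have b5 : Hensel.IsHenselization (Localization.AtPrime q) Bh :=
    { henselian := Hensel.IsHenselization.henselian B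
      universal := by
        intro T _ _ f hf
        have : IsLocalHom eB.symm.toRingEquiv.toRingHom := isLocalHom_toRingHom _
        obtain ⟨g, hg1, hg2⟩ := Hensel.IsHenselization.universal (R := B) (S := Bh) T
          (f.comp eB.symm.toRingEquiv.toRingHom) inferInstance
        refine ⟨g, ?_, fun g' hg' => hg2 g' ?_⟩
        · change g.comp ((algebraMap B Bh).comp eB.toRingEquiv.toRingHom) = f
          rw [← RingHom.comp_assoc]
          erw [hg1]
          ext x
          simp
        · change g'.comp ((algebraMap B Bh).comp eB.toRingEquiv.toRingHom) = f at hg'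
          change g'.comp (algebraMap B Bh) = _
          rw [← hg']
          ext x
          simp }
  exact ⟨finite_henselization p q Ah Bh g hg, injective_comap p q Ah Bh g hg hinj⟩

end K130.RadHensAlg
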