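import Groth.Agent.EGA43.K130.RadHens
import Groth.Agent.EGA43.K130.RadFin
import Groth.Agent.FlatA.ZMTFactor
import Groth.Agent.S2121
import Mathlib.AlgebraicGeometry.Morphisms.UniversallyOpen
import Mathlib.AlgebraicGeometry.PullbackCarrier

/-!
A universally injective endomorphism of a scheme of finite type over the integers is finite.
-/

universe u

noncomputable section

namespace K130.RadZMT

open IsLocalRing CategoryTheory Limits AlgebraicGeometry RadHens

theorem isSeparated_of_universallyInjective {X Y : Scheme.{u}} (f : X ⟶ Y)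
    [UniversallyInjective f] : IsSeparated f := by
  have h1 : Surjective (pullback.diagonal f) := (UniversallyInjective.iff_diagonal f).mp inferInstance
  refine ⟨?_⟩
  refine .of_isPreimmersion _ ?_
  rw [Set.range_eq_univ.mpr h1.surj]
  exact isClosed_univ

/-- If the map of henselizations at `x` is surjective on spectra, then a finite morphism extending `f` has
no further points above `f x`. -/
theorem mem_range_of_surjective {X X' Y : Scheme.{u}} (i : X ⟶ X') (f' : X' ⟶ Y) [IsOpenImmersion i]
    [IsDominant i] [QuasiCompact i] [IsSeparated f'] [UniversallyInjective (i ≫ f')] {x : X} {y : Y}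
    (H : HensAt X x) (K : HensAt Y y)
    (φ : Spec (CommRingCat.of H.A) ⟶ Spec (CommRingCat.of K.A)) (hφ : φ ≫ K.toX = H.toX ≫ i ≫ f')
    [IsFinite φ] (hs : Function.Surjective φ) (x' : X') (hx' : f' x' = y) :
    x' ∈ Set.range i := by
  let p₁ := pullback.fst f' K.toX
  let p₂ := pullback.snd f' K.toX
  let q₁ := pullback.fst (i ≫ f') K.toX
  let q₂ := pullback.snd (i ≫ f') K.toX
  have hq₂ : Function.Injective q₂ := by
    have : UniversallyInjective q₂ :=
      MorphismProperty.pullback_snd (P := @UniversallyInjective) _ _ inferInstance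
    exact q₂.injective
  let σ : Spec (CommRingCat.of H.A) ⟶ pullback f' K.toX := pullback.lift (H.toX ≫ i) φ (by
    rw [Category.assoc, hφ])
  have hσ1 : σ ≫ p₁ = H.toX ≫ i := pullback.lift_fst _ _ _
  have hσ2 : σ ≫ p₂ = φ := pullback.lift_snd _ _ _
  have hσ : IsFinite σ := by
    have h1 : IsFinite (σ ≫ p₂) := by rw [hσ2]; infer_instance
    have h2 : IsSeparated p₂ := inferInstanceAs (IsSeparated (pullback.snd f' K.toX))
    exact IsFinite.of_comp σ p₂
  have hcl : IsClosed (Set.range σ) := σ.isClosedMap.isClosed_range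
  have hr : Set.range σ = p₁ ⁻¹' (Set.range i) := by
    ext t
    constructor
    · rintro ⟨s, rfl⟩
      refine ⟨H.toX s, ?_⟩
      rw [← Scheme.Hom.comp_apply, ← Scheme.Hom.comp_apply, hσ1]
    · rintro ⟨z, hz⟩
      obtain ⟨s, hs⟩ := hs (p₂ t)
      -- a point of the fibre product of `X` above `t`
      let m : pullback (i ≫ f') K.toX ⟶ pullback f' K.toX :=
        pullback.lift (q₁ ≫ i) q₂ (by
          rw [Category.assoc, pullback.condition])
      have hm1 : m ≫ p₁ = q₁ ≫ i := pullback.lift_fst _ _ _
      have hm2 : m ≫ p₂ = q₂ := pullback.lift_snd _ _ _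
      have hpb : IsPullback q₁ m i p₁ := by
        refine IsPullback.of_bot ?_ hm1.symm (IsPullback.of_hasPullback f' K.toX)
        rw [hm2]
        exact IsPullback.of_hasPullback (i ≫ f') K.toX
      obtain ⟨w', hw1, hw2⟩ := Scheme.Pullback.exists_preimage_pullback (f := i) (g := p₁) z t hz
      obtain ⟨w, rfl⟩ := hpb.isoPullback.hom.surjective w'
      have hw : m w = t := by
        rw [← hw2, ← Scheme.Hom.comp_apply, hpb.isoPullback_hom_snd]
      let σ₁ : Spec (CommRingCat.of H.A) ⟶ pullback (i ≫ f') K.toX := pullback.lift H.toX φ hφ.symm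
      have hσ₁ : σ₁ ≫ m = σ := by
        apply pullback.hom_ext
        · change (σ₁ ≫ m) ≫ p₁ = σ ≫ p₁
          rw [Category.assoc, hm1, hσ1, ← Category.assoc]
          congr 1
          exact pullback.lift_fst _ _ _
        · change (σ₁ ≫ m) ≫ p₂ = σ ≫ p₂
          rw [Category.assoc, hm2, hσ2]
          exact pullback.lift_snd _ _ _
      refine ⟨s, ?_⟩
      rw [← hσ₁, Scheme.Hom.comp_apply, ← hw]
      congr 1
      apply hq₂
      have e1 : σ₁ ≫ q₂ = φ := pullback.lift_snd _ _ _
      rw [← Scheme.Hom.comp_apply, e1, hs, ← hw, ← Scheme.Hom.comp_apply, hm2]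
  obtain ⟨t', ht1, ht2⟩ := Scheme.Pullback.exists_preimage_pullback (f := f') (g := K.toX) x'
    (closedPoint K.A) (by rw [hx', K.toX_closedPoint])
  obtain ⟨z, hz⟩ := Groth.Agent.S2121.exists_specializes i x' (by
    rw [i.denseRange.closure_range]; trivial)
  have hflat : Flat p₁ := inferInstanceAs (Flat (pullback.fst f' K.toX))
  obtain ⟨t'', h1, h2⟩ := Flat.generalizingMap p₁ (a := t') (b := i z) (by
    change i z ⤳ (pullback.fst f' K.toX) t'
    rw [ht1]; exact hz)
  have h3 : t'' ∈ Set.range σ := by
    rw [hr]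
    exact ⟨z, h2.symm⟩
  have h4 : t' ∈ Set.range σ := h1.mem_closed hcl h3
  rw [hr] at h4
  have h5 : (pullback.fst f' K.toX) t' ∈ Set.range i := h4
  rwa [ht1] at h5

/-- For a closed point `y` of `X` of finite type over the integers and a universally injective endomorphism,
there is a point `x` over `y` with surjective map of the spectra of henselizations. -/
theorem exists_surjective_hensMap {X : Scheme.{u}} [CompactSpace X]
    [LocallyOfFiniteType (Limits.IsTerminal.from specULiftZIsTerminal X)] [IsLocallyNoetherian X]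
    (f : X ⟶ X) [UniversallyInjective f] [LocallyOfFiniteType f] (y : X)
    (hy : IsClosed ({y} : Set X)) :
    ∃ (x z : X) (H : HensAt X x) (K : HensAt X z)
      (φ : Spec (CommRingCat.of H.A) ⟶ Spec (CommRingCat.of K.A)),
      z = y ∧ φ ≫ K.toX = H.toX ≫ f ∧ IsFinite φ ∧ Function.Surjective φ := by
  obtain ⟨C, hC, hyC, hst⟩ := RadFin.exists_finite_stable X y hy
  have : Finite C := hC
  let H : ∀ x : X, HensAt X x := fun x => (nonempty_hensAt X x).some
  choose φ h1 h2 h3 using fun x : X => exists_hensMap f x (H x) (H (f x))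
  let g : C → C := fun x => ⟨f x.1, hst f x.1 x.2⟩
  have hg : Function.Injective g := fun a b hab => Subtype.ext (f.injective congr(($hab).1))
  have hN : ∀ x : C, TopologicalSpace.NoetherianSpace (Spec (CommRingCat.of (H x.1).A)) := fun x =>
    inferInstance
  obtain ⟨x, hx, hs⟩ := RadFin.exists_surjective
    (fun x : C => (Spec (CommRingCat.of (H x.1).A) : Scheme.{u})) g hg (fun x => φ x.1)
    (fun x => (φ x.1).isClosedMap) (fun x => h3 x.1) ⟨y, hyC⟩
  exact ⟨x.1, f x.1, H x.1, H (f x.1), φ x.1, congr(($hx).1), h1 x.1, h2 x.1, hs⟩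

/-- A universally injective endomorphism of a scheme of finite type over the integers is finite. -/
theorem isFinite_of_int {X : Scheme.{u}} [CompactSpace X]
    [LocallyOfFiniteType (Limits.IsTerminal.from specULiftZIsTerminal X)] (f : X ⟶ X)
    [UniversallyInjective f] : IsFinite f := by
  have : IsNoetherianRing (ULift.{u} ℤ) := isNoetherianRing_of_ringEquiv ℤ ULift.ringEquiv.symm
  have h1 : IsLocallyNoetherian (Spec (.of (ULift.{u} ℤ))) := inferInstance
  have hN : IsLocallyNoetherian X :=
    LocallyOfFiniteType.isLocallyNoetherian (Limits.IsTerminal.from specULiftZIsTerminal X)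
  have hlft : LocallyOfFiniteType f := (Groth.Agent.S4886.lft_comp f).mpr inferInstance
  have hsep : IsSeparated f := isSeparated_of_universallyInjective f
  have hqc : QuasiCompact f := inferInstance
  obtain ⟨T, j, π, h2, h3, h4, h5, rfl⟩ := Groth.Agent.FlatA.ZMTFactor.exists_factor f
  suffices h : Set.range j = Set.univ by
    have h6 : Surjective j := ⟨Set.range_eq_univ.mp h⟩
    have h7 : IsIso j := (isIso_iff_isOpenImmersion_and_epi_base j).mpr
      ⟨inferInstance, (TopCat.epi_iff_surjective _).mpr j.surjective⟩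
    infer_instance
  by_contra hne
  have hcl : IsClosed (π '' (Set.range j)ᶜ) :=
    π.isClosedMap _ (isClosed_compl_iff.mpr j.isOpenEmbedding.isOpen_range)
  obtain ⟨y, hy1, hy2⟩ := hcl.exists_closed_singleton
    ((Set.nonempty_compl.mpr hne).image _)
  obtain ⟨x', hx1, hx2⟩ := hy1
  obtain ⟨x, z, H, K, φ, rfl, h6, h7, h8⟩ := exists_surjective_hensMap (j ≫ π) y hy2
  exact hx1 (mem_range_of_surjective j π H K φ h6 h8 x' hx2)

theorem surjective_of_int {X : Scheme.{u}} [CompactSpace X]
    [LocallyOfFiniteType (Limits.IsTerminal.from specULiftZIsTerminal X)] (f : X ⟶ X)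
    [UniversallyInjective f] : Function.Surjective f := by
  have : IsNoetherianRing (ULift.{u} ℤ) := isNoetherianRing_of_ringEquiv ℤ ULift.ringEquiv.symm
  have h1 : IsLocallyNoetherian (Spec (.of (ULift.{u} ℤ))) := inferInstance
  have hN : IsLocallyNoetherian X :=
    LocallyOfFiniteType.isLocallyNoetherian (Limits.IsTerminal.from specULiftZIsTerminal X)
  have hN' : IsNoetherian X := { }
  have hf := isFinite_of_int f
  exact RadFin.surjective_of_isClosedMap f f.isClosedMap f.injective

end K130.RadZMT
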