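import Groth.Agent.EGA43.K130.FibBCMod
import Groth.Agent.EGA43.K130.ConstrPoly
import Groth.Agent.EGA43.K131.FibMain

/-!
# Local constructibility of conditions on the stalks of the fibres of a module

* `AffConstr Q`, `isLocallyConstructible_of_aff`: reduction to the affine case, for the properties `Q R M n` of
  `K131.FibOpenMod` (with `n` the transcendence degree of `κ(x)` over `κ(f x)`), without flatness.
* `affConstr_of_poly`: reduction to polynomial rings.
* `affConstr_rect`, `affConstr_rectTop`: the rectified depth.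
-/

set_option autoImplicit false
universe u

open TensorProduct CategoryTheory CategoryTheory.Limits AlgebraicGeometry EGA4 IsLocalRing Topology TopologicalSpace Function

namespace K130.RectConstr

open Groth.Agent Groth.Agent.Ega43 Groth.Agent.Ega43.FibTransfer Groth.Agent.Ega43.FibCM
  Groth.Agent.Ega43.FibSpec Groth.Agent.CycB.TrdegAlg K131.FibOpenMod K131.FibNum Groth.Agent.CycB.RelDim
  K130.ConstrPoly

attribute [local instance] FibCM.isLocalRing_fib
attribute [local instance] MvPolynomial.algebraMvPolynomial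

section Poly

theorem isNoetherianRing_fib (A : Type u) [CommRing A] (N : ℕ) (Q : Ideal (MvPolynomial (Fin N) A)) [Q.IsPrime] :
    IsNoetherianRing (FibLocRing A (MvPolynomial (Fin N) A) Q) := by
  have := isRegularLocalRing_fib (A := A) (N := N) Q
  infer_instance

theorem rect_inv (n : ℕ) : K130.ConstrPoly.Inv.{u} (fun A _ N M _ _ Q => Rect A N M n Q) where
  iso := by
    intro A _ N M M' _ _ _ _ e Q h r hr
    have e' : FibLocMod A (MvPolynomial (Fin N) A) Q.asIdeal M
        ≃ₗ[FibLocRing A (MvPolynomial (Fin N) A) Q.asIdeal]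
        FibLocMod A (MvPolynomial (Fin N) A) Q.asIdeal M' :=
      ((isBaseChange_fib A M Q.asIdeal).equiv.symm.trans (LinearEquiv.baseChange _ _ _ _ e)).trans
        (isBaseChange_fib A M' Q.asIdeal).equiv
    rw [← Groth.Agent.Ega4B.DepthBasic.depth_congr e']
    exact h r hr
  bc := by
    intro A C _ _ _ N M _ _ _ Q'
    have h1 := isNoetherianRing_fib A N (Q'.asIdeal.comap (algebraMap (MvPolynomial (Fin N) A) (MvPolynomial (Fin N) C)))
    rw [rect_iff, rect_iff, K130.FibBCMod.hasPD_iff A (MvPolynomial (Fin N) A) C (MvPolynomial (Fin N) C) M Q'.asIdeal,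
      Ega4A.SuppTensor.support_baseChange]
    rfl

theorem rect_flatCase (n : ℕ) : FlatCase.{u} (fun A _ N M _ _ Q => Rect A N M n Q) := by
  intro A _ _ N M _ _ _ _ _ _
  have : Module.FinitePresentation (MvPolynomial (Fin N) A) M := Module.finitePresentation_of_finite _ _
  have h := isOpen_rect A N M (FlatKer.kerFP A (MvPolynomial (Fin N) A)) n
  exact IsCompact.isConstructible (TopologicalSpace.NoetherianSpace.isCompact _) h

theorem isConstructible_rect (A : Type u) [CommRing A] (N : ℕ) (M : Type u) [AddCommGroup M]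
    [Module (MvPolynomial (Fin N) A) M] [Module.FinitePresentation (MvPolynomial (Fin N) A) M] (n : ℕ) :
    IsConstructible {Q : PrimeSpectrum (MvPolynomial (Fin N) A) | Rect A N M n Q} :=
  isConstructible (rect_inv n) (rect_flatCase n) A N M

/-- The rectified depth is infinite. -/
def RectTop (A : Type u) [CommRing A] (N : ℕ) (M : Type u) [AddCommGroup M]
    [Module (MvPolynomial (Fin N) A) M] (Q : PrimeSpectrum (MvPolynomial (Fin N) A)) : Prop :=
  ∀ r : ℕ, tr A Q.asIdeal = r → ((⊤ : ℕ∞) : WithBot ℕ∞) ≤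
  ((LocCoh.depth (FibLocRing A (MvPolynomial (Fin N) A) Q.asIdeal)
    (FibLocMod A (MvPolynomial (Fin N) A) Q.asIdeal M) : ℕ∞) : WithBot ℕ∞) + r

theorem rectTop_iff (A : Type u) [CommRing A] (N : ℕ) (M : Type u) [AddCommGroup M]
    [Module (MvPolynomial (Fin N) A) M] [Module.Finite (MvPolynomial (Fin N) A) M]
    (Q : PrimeSpectrum (MvPolynomial (Fin N) A)) : RectTop A N M Q ↔ Rect A N M (N + 1) Q := by
  constructor
  · intro h r hr
    refine le_trans ?_ (h r hr)
    exact WithBot.coe_le_coe.mpr le_top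
  · rw [rect_iff]
    rintro (h | ⟨h, -⟩)
    · intro r _
      have hsub := subsingleton_fib A N M Q h
      rw [Ega4A.DepthBasic.depth_of_subsingleton]
      change ((⊤ : ℕ∞) : WithBot ℕ∞) ≤ ((⊤ + (r : ℕ∞) : ℕ∞) : WithBot ℕ∞)
      rw [top_add]
    · omega

theorem isConstructible_rectTop (A : Type u) [CommRing A] (N : ℕ) (M : Type u) [AddCommGroup M]
    [Module (MvPolynomial (Fin N) A) M] [Module.FinitePresentation (MvPolynomial (Fin N) A) M] :
    IsConstructible {Q : PrimeSpectrum (MvPolynomial (Fin N) A) | RectTop A N M Q} := by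
  simp only [rectTop_iff]
  exact isConstructible_rect A N M (N + 1)

end Poly

section Aff

/-- The affine statement. -/
def AffConstr (Q : LProp.{u}) : Prop :=
  ∀ (A B M : Type u) [CommRing A] [CommRing B] [Algebra A B] [Algebra.FinitePresentation A B]
    [AddCommGroup M] [Module B M] [Module.FinitePresentation B M],
    IsConstructible {q : PrimeSpectrum B | ∀ n : ℕ, tr A q.asIdeal = n →
      @Q (EGA4.FibLocRing A B q.asIdeal) _ (Ega4C.SkFlat.isLocalRing_fibLocRing (B := A) q.asIdeal)
        (EGA4.FibLocMod A B q.asIdeal M) _ _ n}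

/-- Reduction of the affine statement to polynomial rings. -/
theorem affConstr_of_poly {Q : LProp.{u}} (hQ : K131.FibOpenMod.Inv Q)
    (H : ∀ (A : Type u) [CommRing A] (N : ℕ) (M : Type u) [AddCommGroup M]
      [Module (MvPolynomial (Fin N) A) M] [Module.FinitePresentation (MvPolynomial (Fin N) A) M],
      IsConstructible {q : PrimeSpectrum (MvPolynomial (Fin N) A) | ∀ n : ℕ, tr A q.asIdeal = n →
        Q (FibLocRing A (MvPolynomial (Fin N) A) q.asIdeal)
        (FibLocMod A (MvPolynomial (Fin N) A) q.asIdeal M) n}) :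
    AffConstr Q := by
  intro A B M _ _ _ _ _ _ _
  obtain ⟨N, φ, hφ, hker⟩ := FibAff.exists_poly (A := A) (B := B)
  let : Algebra (MvPolynomial (Fin N) A) B := φ.toRingHom.toAlgebra
  have : IsScalarTower A (MvPolynomial (Fin N) A) B :=
    IsScalarTower.of_algebraMap_eq' φ.comp_algebraMap.symm
  let : Module (MvPolynomial (Fin N) A) M := Module.compHom M (algebraMap (MvPolynomial (Fin N) A) B)
  have : IsScalarTower (MvPolynomial (Fin N) A) B M := IsScalarTower.of_algebraMap_smul fun _ _ ↦ rfl
  have : Module.FinitePresentation (MvPolynomial (Fin N) A) B :=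
    Module.finitePresentation_of_surjective (Algebra.linearMap (MvPolynomial (Fin N) A) B) hφ hker
  have : Module.FinitePresentation (MvPolynomial (Fin N) A) M := .trans (MvPolynomial (Fin N) A) M B
  have h := Ega4fib.H143.ConstrAlg.isConstructible_preimage_comap
    (algebraMap (MvPolynomial (Fin N) A) B) (H A N M)
  convert h using 1
  ext q
  rw [Set.mem_ofPred_eq, Set.mem_preimage, Set.mem_ofPred_eq]
  obtain ⟨σ, e, hσ, he⟩ := exists_fib_equiv (A := A) hφ M q.asIdeal
  have h1 : tr A (PrimeSpectrum.comap (algebraMap (MvPolynomial (Fin N) A) B) q).asIdeal =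
      tr A q.asIdeal := tr_comap hφ q.asIdeal
  rw [h1]
  exact forall_congr' fun n => imp_congr_right fun _ => (hQ σ hσ e he n).symm

theorem affConstr_rect (k : ℕ) : AffConstr (RectGE.{u} k) :=
  affConstr_of_poly (inv_rectGE k) fun A _ N M _ _ _ => isConstructible_rect A N M k

/-- Rectified depth infinite. -/
def RectTopL : LProp.{u} := fun R _ _ M _ _ r =>
  ((⊤ : ℕ∞) : WithBot ℕ∞) ≤ ((LocCoh.depth R M : ℕ∞) : WithBot ℕ∞) + r

theorem inv_rectTopL : K131.FibOpenMod.Inv RectTopL.{u} := by
  intro R R' _ _ _ _ σ hσ M M' _ _ _ _ e he n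
  unfold RectTopL
  rw [Ega4A.DepthBasic.depth_congr_of_surjective σ hσ M M' e he]

theorem affConstr_rectTop : AffConstr RectTopL.{u} :=
  affConstr_of_poly inv_rectTopL fun A _ N M _ _ _ => isConstructible_rectTop A N M

end Aff

section Sch

variable {X S : Scheme.{u}} (f : X ⟶ S) (F : X.Modules)

/-- Local constructibility from the affine statement. -/
theorem isLocallyConstructible_of_aff {Q : LProp.{u}} (hQ : K131.FibOpenMod.Inv Q) (haff : AffConstr Q)
    [LocallyOfFinitePresentation f] (hF : CohB1.IsFP F) :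
    IsLocallyConstructible {x : X | ∀ n : ℕ, rtd f x = n →
      Q ((f.fiber (f.base x)).presheaf.stalk (f.asFiber x))
        (((Scheme.Modules.pullback (f.fiberι (f.base x))).obj F).presheaf.stalk (f.asFiber x)) n} := by
  have hqc := PerfC.FPSections.isQCoh_of_isFP hF
  intro y
  obtain ⟨V, hV, hyV, -⟩ := exists_isAffineOpen_mem_and_subset (x := f y) (U := ⊤) trivial
  obtain ⟨U, hU, hyU, h⟩ := exists_isAffineOpen_mem_and_subset (x := y) (U := f ⁻¹ᵁ V) hyV
  let i1 : Algebra Γ(S, V) Γ(X, U) := (f.appLE V U h).hom.toAlgebra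
  have hi1 : algebraMap Γ(S, V) Γ(X, U) = (f.appLE V U h).hom := rfl
  have h1 : Algebra.FinitePresentation Γ(S, V) Γ(X, U) := f.finitePresentation_appLE hV hU h
  have h2 : Module.FinitePresentation Γ(X, U) Γ(F, U) :=
    Desc.FPSections.finitePresentation_sections hU hqc hF
  have h3 := haff Γ(S, V) Γ(X, U) Γ(F, U)
  refine ⟨U, U.2.mem_nhds hyU, U.2, ?_⟩
  have h4 := h3.preimage_of_isOpenEmbedding hU.isoSpec.hom.isOpenEmbedding
  convert! h4 using 1
  ext ⟨x, hx⟩
  have h5 := fun n : ℕ => iff_fibLoc f F hQ n hqc hV hU h x hx hi1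
  have h6 := rtd_eq_tr f hV hU h x hx hi1
  constructor
  · intro hx' n hn
    exact (h5 n).mp (hx' n (h6.trans hn))
  · intro hx' n hn
    exact (h5 n).mpr (hx' n (h6.symm.trans hn))

/-- The sets where the rectified depth of the fibre stalk is at least `k`. -/
theorem isLocallyConstructible_rect [LocallyOfFinitePresentation f] (hF : CohB1.IsFP F) (k : ℕ) :
    IsLocallyConstructible {x : X | (k : WithBot ℕ∞) ≤
      ((CInt.fiberDepth f F x : ℕ∞) : WithBot ℕ∞) +
        topologicalKrullDim ↥(closure ({f.asFiber x} : Set ↥(f.fiber (f.base x))))} := by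
  convert isLocallyConstructible_of_aff f F (inv_rectGE k) (affConstr_rect k) hF using 1
  ext x
  obtain ⟨n, hn, hn'⟩ := K131.FibMain.exists_rtd f x
  constructor
  · intro h m hm
    have : m = n := by
      rw [hn] at hm
      exact_mod_cast hm.symm
    subst this
    rw [Set.mem_ofPred_eq, hn'] at h
    exact h
  · intro h
    rw [Set.mem_ofPred_eq, hn']
    exact h n hn

/-- The set where the rectified depth of the fibre stalk is infinite. -/
theorem isLocallyConstructible_rectTop [LocallyOfFinitePresentation f] (hF : CohB1.IsFP F) :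
    IsLocallyConstructible {x : X | ((⊤ : ℕ∞) : WithBot ℕ∞) ≤
      ((CInt.fiberDepth f F x : ℕ∞) : WithBot ℕ∞) +
        topologicalKrullDim ↥(closure ({f.asFiber x} : Set ↥(f.fiber (f.base x))))} := by
  convert isLocallyConstructible_of_aff f F inv_rectTopL affConstr_rectTop hF using 1
  ext x
  obtain ⟨n, hn, hn'⟩ := K131.FibMain.exists_rtd f x
  constructor
  · intro h m hm
    have : m = n := by
      rw [hn] at hm
      exact_mod_cast hm.symm
    subst this
    rw [Set.mem_ofPred_eq, hn'] at h
    exact h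
  · intro h
    rw [Set.mem_ofPred_eq, hn']
    exact h n hn

theorem isLocallyConstructible_compl {T : Type*} [TopologicalSpace T] {s : Set T}
    (hs : IsLocallyConstructible s) : IsLocallyConstructible sᶜ := by
  intro x
  obtain ⟨U, hU, hUo, hc⟩ := hs x
  exact ⟨U, hU, hUo, hc.compl⟩

/-- The level sets of the rectified depth of the fibre stalks. -/
theorem isLocallyConstructible_eq [LocallyOfFinitePresentation f] (hF : CohB1.IsFP F) (n : ℕ∞) :
    IsLocallyConstructible {x : X |
      ((CInt.fiberDepth f F x : ℕ∞) : WithBot ℕ∞) +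
          topologicalKrullDim ↥(closure ({f.asFiber x} : Set ↥(f.fiber (f.base x)))) =
        ((n : ℕ∞) : WithBot ℕ∞)} := by
  induction n using ENat.recTopCoe with
  | top =>
    convert isLocallyConstructible_rectTop f F hF using 1
    ext x
    obtain ⟨m, hm, hm'⟩ := K131.FibMain.exists_rtd f x
    rw [Set.mem_ofPred_eq, Set.mem_ofPred_eq, hm']
    constructor
    · intro h
      rw [h]
    · intro h
      refine le_antisymm ?_ h
      change ((CInt.fiberDepth f F x + (m : ℕ∞) : ℕ∞) : WithBot ℕ∞) ≤ _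
      exact WithBot.coe_le_coe.mpr le_top
  | coe n =>
    have h := (isLocallyConstructible_rect f F hF n).inter 
      (isLocallyConstructible_compl (isLocallyConstructible_rect f F hF (n + 1)))
    convert h using 1
    ext x
    obtain ⟨m, hm, hm'⟩ := K131.FibMain.exists_rtd f x
    rw [Set.mem_inter_iff, Set.mem_compl_iff, Set.mem_ofPred_eq, Set.mem_ofPred_eq, Set.mem_ofPred_eq, hm']
    change ((CInt.fiberDepth f F x + (m : ℕ∞) : ℕ∞) : WithBot ℕ∞) = _ ↔
      _ ≤ ((CInt.fiberDepth f F x + (m : ℕ∞) : ℕ∞) : WithBot ℕ∞) ∧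
        ¬ _ ≤ ((CInt.fiberDepth f F x + (m : ℕ∞) : ℕ∞) : WithBot ℕ∞)
    generalize (CInt.fiberDepth f F x + (m : ℕ∞) : ℕ∞) = c
    have h1 : ((n : ℕ) : WithBot ℕ∞) = (((n : ℕ) : ℕ∞) : WithBot ℕ∞) := rfl
    have h2 : ((n + 1 : ℕ) : WithBot ℕ∞) = (((n + 1 : ℕ) : ℕ∞) : WithBot ℕ∞) := rfl
    rw [h1, h2, WithBot.coe_le_coe, WithBot.coe_le_coe, WithBot.coe_inj]
    induction c using ENat.recTopCoe with
    | top => simp
    | coe c =>
      norm_cast
      omega

end Sch

end K130.RectConstr
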