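import Mathlib.LinearAlgebra.TensorProduct.Basis
import Mathlib.LinearAlgebra.TensorProduct.Tower
import Mathlib.RingTheory.Flat.Basic
import Mathlib.RingTheory.Nilpotent.Basic
import Mathlib.RingTheory.Ideal.Quotient.Operations
import Mathlib.LinearAlgebra.FreeModule.Basic

/-!
# Joint injectivity modulo a nilpotent ideal with free graded pieces
-/

set_option autoImplicit false
universe u
open scoped TensorProduct

namespace K130.SepNilp

variable {A : Type u} [CommRing A] (J : Ideal A)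
  {M : Type u} [AddCommGroup M] [Module A M]
  {ι : Type u} {N : ι → Type u} [∀ i, AddCommGroup (N i)] [∀ i, Module A (N i)]

theorem eq_zero_of_forall_coord {R₀ : Type u} [CommRing R₀] [Algebra A R₀] {Q : Type u} [AddCommGroup Q]
    [Module A Q] [Module R₀ Q] [IsScalarTower A R₀ Q] {Λ : Type*} (b : Module.Basis Λ R₀ Q)
    (x : Q ⊗[A] M) (h : ∀ l, ((b.coord l).restrictScalars A).rTensor M x = 0) : x = 0 := by
  classical
  let e := TensorProduct.AlgebraTensorModule.cancelBaseChange A R₀ R₀ Q M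
  have key : ∀ (x : Q ⊗[A] M) (l : Λ), TensorProduct.equivFinsuppOfBasisLeft (N := R₀ ⊗[A] M) b (e.symm x) l =
      ((b.coord l).restrictScalars A).rTensor M x := by
    intro x l
    induction x with
    | zero => simp
    | add x y hx hy => rw [map_add, map_add, Finsupp.add_apply, hx, hy, map_add]
    | tmul q m =>
      simp only [e, TensorProduct.AlgebraTensorModule.cancelBaseChange_symm_tmul,
        TensorProduct.equivFinsuppOfBasisLeft_apply_tmul_apply, LinearMap.rTensor_tmul]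
      rw [TensorProduct.smul_tmul', smul_eq_mul, mul_one]
      rfl
  have h1 : TensorProduct.equivFinsuppOfBasisLeft (N := R₀ ⊗[A] M) b (e.symm x) = 0 := by
    ext l
    rw [key, h l]
    rfl
  rw [LinearEquiv.map_eq_zero_iff] at h1
  rwa [LinearEquiv.map_eq_zero_iff] at h1

theorem lTensor_joint_injective_of_free {R₀ : Type u} [CommRing R₀] [Algebra A R₀] {Q : Type u} [AddCommGroup Q]
    [Module A Q] [Module R₀ Q] [IsScalarTower A R₀ Q] [Module.Free R₀ Q] (u : ∀ i, M →ₗ[A] N i)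
    (h0 : ∀ t : R₀ ⊗[A] M, (∀ i, (u i).lTensor R₀ t = 0) → t = 0)
    (x : Q ⊗[A] M) (hx : ∀ i, (u i).lTensor Q x = 0) : x = 0 := by
  refine eq_zero_of_forall_coord (Module.Free.chooseBasis R₀ Q) x fun l => h0 _ fun i => ?_
  rw [← LinearMap.comp_apply, LinearMap.lTensor_comp_rTensor, ← LinearMap.rTensor_comp_lTensor,
    LinearMap.comp_apply, hx i, map_zero]

/-- The multiplication `I ⊗ M → M`. -/
noncomputable def mu (I : Ideal A) (M : Type u) [AddCommGroup M] [Module A M] : ↥I ⊗[A] M →ₗ[A] M :=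
  (TensorProduct.lid A M).toLinearMap.comp (I.subtype.rTensor M)

theorem mu_tmul (I : Ideal A) (a : I) (m : M) : mu I M (a ⊗ₜ m) = (a : A) • m := by
  simp [mu]

theorem mu_injective (I : Ideal A) (M : Type u) [AddCommGroup M] [Module A M] [Module.Flat A M] :
    Function.Injective (mu I M) := by
  have := Module.Flat.rTensor_preserves_injective_linearMap (M := M) I.subtype I.subtype_injective
  exact (TensorProduct.lid A M).injective.comp this

theorem exists_mu_eq (I : Ideal A) (m : M) (hm : m ∈ (I • ⊤ : Submodule A M)) : ∃ t, mu I M t = m := by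
  refine Submodule.smul_induction_on hm ?_ ?_
  · intro a ha m _
    exact ⟨⟨a, ha⟩ ⊗ₜ m, mu_tmul _ _ _⟩
  · rintro x y ⟨s, rfl⟩ ⟨t, rfl⟩
    exact ⟨s + t, map_add _ _ _⟩

theorem mu_naturality (I : Ideal A) {M' : Type u} [AddCommGroup M'] [Module A M'] (u : M →ₗ[A] M')
    (t : ↥I ⊗[A] M) : mu I M' (u.lTensor I t) = u (mu I M t) := by
  induction t with
  | zero => simp
  | add x y hx hy => simp only [map_add, hx, hy]
  | tmul a m => simp [mu_tmul]

/-- An element of `J^k ⊗ M` with zero image in `(A/J ⊗ J^k) ⊗ M` has its product in `J^{k+1} M`. -/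
theorem mu_mem_of_eq_zero (k : ℕ) (t : ↥(J ^ k) ⊗[A] M)
    (ht : ((TensorProduct.mk A (A ⧸ J) ↥(J ^ k) 1).rTensor M) t = 0) :
    mu (J ^ k) M t ∈ (J ^ (k + 1) • ⊤ : Submodule A M) := by
  let ψ : ↥(J ^ k) →ₗ[A] M →ₗ[A] (M ⧸ (J ^ (k + 1) • ⊤ : Submodule A M)) :=
    (TensorProduct.mk A ↥(J ^ k) M).compr₂
      ((J ^ (k + 1) • ⊤ : Submodule A M).mkQ.comp (mu (J ^ k) M))
  have hψ : ∀ a m, ψ a m = (J ^ (k + 1) • ⊤ : Submodule A M).mkQ ((a : A) • m) := by
    intro a m
    change (J ^ (k + 1) • ⊤ : Submodule A M).mkQ (mu (J ^ k) M (a ⊗ₜ m)) = _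
    rw [mu_tmul]
  let φ₀ : (A ⧸ J) →ₗ[A] (↥(J ^ k) →ₗ[A] M →ₗ[A] (M ⧸ (J ^ (k + 1) • ⊤ : Submodule A M))) :=
    Submodule.liftQ J (LinearMap.toSpanSingleton A _ ψ) (by
      intro a ha
      rw [LinearMap.mem_ker, LinearMap.toSpanSingleton_apply]
      ext b m
      rw [LinearMap.smul_apply, LinearMap.smul_apply, hψ, ← map_smul, smul_smul,
        Submodule.mkQ_apply]
      refine (Submodule.Quotient.mk_eq_zero _).mpr ?_
      refine Submodule.smul_mem_smul ?_ trivial
      rw [pow_succ']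
      exact Ideal.mul_mem_mul ha b.2)
  let φ : ((A ⧸ J) ⊗[A] ↥(J ^ k)) ⊗[A] M →ₗ[A] (M ⧸ (J ^ (k + 1) • ⊤ : Submodule A M)) :=
    TensorProduct.lift (TensorProduct.lift φ₀)
  have hφ : ∀ t : ↥(J ^ k) ⊗[A] M, φ (((TensorProduct.mk A (A ⧸ J) ↥(J ^ k) 1).rTensor M) t) =
      (J ^ (k + 1) • ⊤ : Submodule A M).mkQ (mu (J ^ k) M t) := by
    intro t
    induction t with
    | zero => simp
    | add x y hx hy => simp only [map_add, hx, hy]
    | tmul a m =>
      have h1 : φ₀ 1 = ψ := by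
        change Submodule.liftQ J _ _ (Submodule.Quotient.mk (1 : A)) = ψ
        rw [Submodule.liftQ_apply, LinearMap.toSpanSingleton_apply, one_smul]
      simp only [φ, LinearMap.rTensor_tmul, TensorProduct.mk_apply, TensorProduct.lift.tmul, h1, hψ,
        mu_tmul]
  have h2 := hφ t
  rw [ht, map_zero] at h2
  exact (Submodule.Quotient.mk_eq_zero _).mp h2.symm

theorem joint_injective_of_nilpotent (hJ : IsNilpotent J)
    (hfree : ∀ k : ℕ, Module.Free (A ⧸ J) ((A ⧸ J) ⊗[A] ↥(J ^ k)))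
    [∀ i, Module.Flat A (N i)] (u : ∀ i, M →ₗ[A] N i)
    (h0 : ∀ t : (A ⧸ J) ⊗[A] M, (∀ i, (u i).lTensor (A ⧸ J) t = 0) → t = 0)
    (m : M) (hm : ∀ i, u i m = 0) : m = 0 := by
  have step : ∀ k : ℕ, m ∈ (J ^ k • ⊤ : Submodule A M) := by
    intro k
    induction k with
    | zero => simp
    | succ k ih =>
      obtain ⟨t, ht⟩ := exists_mu_eq _ m ih
      rw [← ht]
      apply mu_mem_of_eq_zero
      have := hfree k
      refine lTensor_joint_injective_of_free (R₀ := A ⧸ J) u h0 _ fun i => ?_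
      rw [← LinearMap.comp_apply, LinearMap.lTensor_comp_rTensor, ← LinearMap.rTensor_comp_lTensor,
        LinearMap.comp_apply]
      have h1 : (u i).lTensor ↥(J ^ k) t = 0 := by
        apply mu_injective (J ^ k) (N i)
        rw [mu_naturality, ht, hm i, map_zero]
      rw [h1, map_zero]
  obtain ⟨n, hn⟩ := hJ
  have h1 := step n
  rw [hn] at h1
  have h2 : ((0 : Ideal A) • ⊤ : Submodule A M) = ⊥ := by
    rw [Submodule.zero_eq_bot, Submodule.bot_smul]
  rw [h2] at h1
  exact h1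

end K130.SepNilp
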