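import Groth.Agent.EGA43.K130.SepBasic
import Groth.Agent.EGA43.K130.SepNilp
import Groth.Agent.Fga.PicTanBasis
import Groth.Agent.Ega43.FibSch2

/-!
# Separating families modulo a nilpotent ideal
-/

set_option autoImplicit false
universe u
open CategoryTheory CategoryTheory.Limits AlgebraicGeometry Opposite TopologicalSpace
open scoped TensorProduct

namespace K130.SepNilpSch

open Groth.Agent Fga.PicTanBasis

/-- Sections over an affine open of a module flat over `Spec A` are flat over `A`. -/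
theorem flat_aff {X : Scheme.{u}} {A : Type u} [CommRing A] (p : X ⟶ Spec (CommRingCat.of A))
    (G : X.Modules) (hG : Coh.IsQCoh G) (hfl : FlatMod.IsFlatOver p G) {U : X.Opens}
    (hU : IsAffineOpen U) :
    letI : Module A Γ(G, U) := Module.compHom _ (aff p U)
    Module.Flat A Γ(G, U) := by
  let i0 : Algebra Γ(Spec (CommRingCat.of A), ⊤) Γ(X, U) := (p.appLE ⊤ U le_top).hom.toAlgebra
  let i1 : Module Γ(Spec (CommRingCat.of A), ⊤) Γ(G, U) :=
    Module.compHom _ (p.appLE ⊤ U le_top).hom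
  have t1 : IsScalarTower Γ(Spec (CommRingCat.of A), ⊤) Γ(X, U) Γ(G, U) :=
    ⟨fun a b m => mul_smul (p.appLE ⊤ U le_top a) b m⟩
  have h1 := Groth.Agent.Ega43.FibSch2.flat_sections p G hG hfl (isAffineOpen_top _) hU le_top rfl
  let i2 : Algebra A Γ(Spec (CommRingCat.of A), ⊤) :=
    (Scheme.ΓSpecIso (CommRingCat.of A)).inv.hom.toAlgebra
  let i3 : Module A Γ(G, U) := Module.compHom _ (aff p U)
  have t2 : IsScalarTower A Γ(Spec (CommRingCat.of A), ⊤) Γ(G, U) :=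
    IsScalarTower.of_algebraMap_smul fun r m => rfl
  have h2 : Module.Flat A Γ(Spec (CommRingCat.of A), ⊤) := by
    have hb : Function.Bijective (algebraMap A Γ(Spec (CommRingCat.of A), ⊤)) :=
      (ConcreteCategory.bijective_of_isIso (Scheme.ΓSpecIso (CommRingCat.of A)).inv)
    exact RingHom.Flat.of_bijective hb
  exact Module.Flat.trans A Γ(Spec (CommRingCat.of A), ⊤) Γ(G, U)

theorem main {X : Scheme.{u}} {A : Type u} [CommRing A] (p : X ⟶ Spec (CommRingCat.of A))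
    (J : Ideal A) (hJ : IsNilpotent J)
    (hfree : ∀ k : ℕ, Module.Free (A ⧸ J) ((A ⧸ J) ⊗[A] ↥(J ^ k)))
    (F : X.Modules) (hF : Coh.IsQCoh F) {ι : Type u} (G : ι → X.Modules) (hG : ∀ i, Coh.IsQCoh (G i))
    (hfl : ∀ i, FlatMod.IsFlatOver p (G i)) (u : ∀ i, F ⟶ G i)
    {X₀ : Scheme.{u}} {π : X₀ ⟶ X} {p₀ : X₀ ⟶ Spec (CommRingCat.of (A ⧸ J))}
    (H : IsPullback π p₀ p (Spec.map (CommRingCat.ofHom (Ideal.Quotient.mk J))))
    (h0 : ∀ V, SepBasic.SecInj (fun i => (Scheme.Modules.pullback π).map (u i)) V) (V : X.Opens) :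
    SepBasic.SecInj u V := by
  refine SepBasic.secInj_of_affine_over (𝟙 X) u (fun _ U _ hU _ => ?_) V
  have haff : IsAffineHom π := by
    have : IsAffineHom (Spec.map (CommRingCat.ofHom (Ideal.Quotient.mk J))) := inferInstance
    exact MorphismProperty.of_isPullback H.flip this
  have hV : IsAffineOpen (π ⁻¹ᵁ U) := hU.preimage π
  have h1 := (SepBasic.secInj_pullback_iff π (le_refl (π ⁻¹ᵁ U)) hF hG u hU hV).mp (h0 _)
  let j1 : Algebra Γ(X, U) Γ(X₀, π ⁻¹ᵁ U) := (π.appLE U (π ⁻¹ᵁ U) le_rfl).hom.toAlgebra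
  let j2 : Algebra A Γ(X, U) := (aff p U).toAlgebra
  let j3 : Algebra (A ⧸ J) Γ(X₀, π ⁻¹ᵁ U) := (aff p₀ (π ⁻¹ᵁ U)).toAlgebra
  let j4 : Algebra A Γ(X₀, π ⁻¹ᵁ U) :=
    ((π.appLE U (π ⁻¹ᵁ U) le_rfl).hom.comp (aff p U)).toAlgebra
  have t1 : IsScalarTower A Γ(X, U) Γ(X₀, π ⁻¹ᵁ U) := IsScalarTower.of_algebraMap_eq' rfl
  have hpo := isPushout_aff _ H hU
  have t2 : IsScalarTower A (A ⧸ J) Γ(X₀, π ⁻¹ᵁ U) := IsScalarTower.of_algebraMap_eq' (by
    have := congrArg CommRingCat.Hom.hom hpo.w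
    refine Eq.trans ?_ this
    change (π.appLE U (π ⁻¹ᵁ U) le_rfl).hom.comp (aff p U) = (π.app U).hom.comp (aff p U)
    rw [Scheme.Hom.app_eq_appLE])
  have hpo' : IsPushout (CommRingCat.ofHom (algebraMap A Γ(X, U)))
      (CommRingCat.ofHom (algebraMap A (A ⧸ J)))
      (CommRingCat.ofHom (algebraMap Γ(X, U) Γ(X₀, π ⁻¹ᵁ U)))
      (CommRingCat.ofHom (algebraMap (A ⧸ J) Γ(X₀, π ⁻¹ᵁ U))) := by
    rw [Scheme.Hom.app_eq_appLE] at hpo
    exact hpo
  rw [CommRingCat.isPushout_iff_isPushout] at hpo'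
  have hpo2 : Algebra.IsPushout A (A ⧸ J) Γ(X, U) Γ(X₀, π ⁻¹ᵁ U) := hpo'.symm
  -- module structures over `A`
  let m1 : Module A Γ(F, U) := Module.compHom _ (aff p U)
  let m2 : ∀ i, Module A Γ(G i, U) := fun i => Module.compHom _ (aff p U)
  have s1 : IsScalarTower A Γ(X, U) Γ(F, U) := IsScalarTower.of_algebraMap_smul fun _ _ => rfl
  have s2 : ∀ i, IsScalarTower A Γ(X, U) Γ(G i, U) :=
    fun i => IsScalarTower.of_algebraMap_smul fun _ _ => rfl
  have f2 : ∀ i, Module.Flat A Γ(G i, U) := fun i => flat_aff p (G i) (hG i) (hfl i) hU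
  let v : ∀ i, Γ(F, U) →ₗ[A] Γ(G i, U) := fun i => (SepBasic.appₗ (u i) U).restrictScalars A
  intro m hm
  refine SepNilp.joint_injective_of_nilpotent (M := Γ(F, U)) J hJ hfree v ?_ m hm
  intro t ht
  let E := Algebra.IsPushout.cancelBaseChange A (A ⧸ J) Γ(X, U) Γ(X₀, π ⁻¹ᵁ U) Γ(F, U)
  let E' := fun i => Algebra.IsPushout.cancelBaseChange A (A ⧸ J) Γ(X, U) Γ(X₀, π ⁻¹ᵁ U) Γ(G i, U)
  have comm : ∀ (i : ι) (t : (A ⧸ J) ⊗[A] Γ(F, U)),
      (SepBasic.appₗ (u i) U).lTensor Γ(X₀, π ⁻¹ᵁ U) (E.symm t) =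
        (E' i).symm ((v i).lTensor (A ⧸ J) t) := by
    intro i t
    induction t with
    | zero => simp
    | add x y hx hy => simp only [map_add, hx, hy]
    | tmul a m =>
      simp only [E, E', Algebra.IsPushout.cancelBaseChange_symm_tmul, LinearMap.lTensor_tmul]
      rfl
  have h3 : E.symm t = 0 := by
    refine h1 _ fun i => ?_
    rw [comm, ht i, map_zero]
  rwa [LinearEquiv.map_eq_zero_iff] at h3

end K130.SepNilpSch
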