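import Groth.Agent.S3390
import Groth.Agent.S3447
import Groth.Agent.Ega4fib.H112.FibreFormula
import Groth.Agent.Ega4fib.H177.Dim
import Groth.Agent.Ega1.ReducedSub
import Groth.Agent.FlatA.FibreDim

/-!
# Dimensions of the local rings of an irreducible closed subscheme and of its image

* `coheight_asFiber_le`: codimensions in fibres along an embedding.
* `main`: the numbers of EGA IV 13.2.7 for `X' ⊆ X` and `Y' = closure (f X')`.
-/

set_option autoImplicit false
universe u
open CategoryTheory AlgebraicGeometry TopologicalSpace Topology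

namespace K130.SubDim

open Groth.Agent

theorem le_iff_of_isEmbedding {X Y : Scheme.{u}} {f : X → Y} (hf : IsEmbedding f) (a b : X) :
    f a ≤ f b ↔ a ≤ b := hf.isInducing.specializes_iff

theorem strictMono_of_isEmbedding {X Y : Scheme.{u}} {f : X → Y} (hf : IsEmbedding f) : StrictMono f := by
  intro a b h
  rw [lt_iff_le_not_ge] at h ⊢
  rwa [le_iff_of_isEmbedding hf, le_iff_of_isEmbedding hf]

theorem coheight_le_of_isEmbedding {X Y : Scheme.{u}} {f : X → Y} (hf : IsEmbedding f) (x : X) :
    Order.coheight x ≤ Order.coheight (f x) :=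
  Order.coheight_le_coheight_apply_of_strictMono f (strictMono_of_isEmbedding hf) x

/-- Codimensions in the fibres, along an embedding which maps the fibre of `h` into a fibre of `f`. -/
theorem coheight_asFiber_le {Z Y X S : Scheme.{u}} (h : Z ⟶ Y) (f : X ⟶ S) (a : Z → X)
    (ha : IsEmbedding a) (z : Z) (hz : ∀ z' : Z, h z' = h z → f (a z') = f (a z)) :
    Order.coheight (h.asFiber z) ≤ Order.coheight (f.asFiber (a z)) := by
  have hmem : ∀ t : h.fiber (h z), f (a (h.fiberι (h z) t)) = f (a z) := fun t =>
    hz _ (by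
      have : h.fiberι (h z) t ∈ Set.range (h.fiberι (h z)) := ⟨t, rfl⟩
      rw [Scheme.Hom.range_fiberι] at this
      exact this)
  let φ : h.fiber (h z) → f.fiber (f (a z)) := fun t =>
    (f.fiberHomeo (f (a z))).symm ⟨a (h.fiberι (h z) t), hmem t⟩
  have hφ : ∀ t, f.fiberι (f (a z)) (φ t) = a (h.fiberι (h z) t) := fun t =>
    f.fiberι_fiberHomeo_symm _ _
  have hle : ∀ t t' : h.fiber (h z), φ t ≤ φ t' ↔ t ≤ t' := fun t t' => by
    rw [← le_iff_of_isEmbedding (f.fiberι (f (a z))).isEmbedding, hφ, hφ,
      le_iff_of_isEmbedding ha, le_iff_of_isEmbedding (h.fiberι (h z)).isEmbedding]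
  have hsm : StrictMono φ := by
    intro t t' ht
    rw [lt_iff_le_not_ge] at ht ⊢
    rwa [hle, hle]
  have h1 : φ (h.asFiber z) = f.asFiber (a z) := by
    apply (f.fiberι (f (a z))).isEmbedding.injective
    rw [hφ, Scheme.Hom.fiberι_asFiber, Scheme.Hom.fiberι_asFiber]
  rw [← h1]
  exact Order.coheight_le_coheight_apply_of_strictMono φ hsm _

theorem fibreDimAt_comp_of_injective {Z V Y : Scheme.{u}} (h : Z ⟶ V) (i : V ⟶ Y)
    (hi : Function.Injective i) (z : Z) :
    FlatMor.fibreDimAt (h ≫ i) z = FlatMor.fibreDimAt h z := by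
  rw [FlatA.FibreDim.fibreDimAt_eq, FlatA.FibreDim.fibreDimAt_eq]
  refine Ega4fib.H177.Dim.localDim_congr ?_ _ _ _
  ext t
  simp only [Set.mem_preimage, Set.mem_singleton_iff, Scheme.Hom.comp_apply]
  exact hi.eq_iff

variable {X Y : Scheme.{u}} [IsLocallyNoetherian Y] (f : X ⟶ Y) [LocallyOfFiniteType f]

theorem irreducibleSpace_of_range {Z T : Type*} [TopologicalSpace Z] [TopologicalSpace T] {e : Z → T} (he : IsEmbedding e)
    (h : IsIrreducible (Set.range e)) : IrreducibleSpace Z := by
  have := Subtype.irreducibleSpace h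
  have h1 : IsIrreducible (Set.univ : Set (Set.range e)) := IrreducibleSpace.isIrreducible_univ _
  have h2 := h1.image he.toHomeomorph.symm he.toHomeomorph.symm.continuous.continuousOn
  rw [Set.image_univ, he.toHomeomorph.symm.surjective.range_eq] at h2
  exact (irreducibleSpace_def _).mpr h2

/-- The numerical content of EGA IV 13.2.7, for a commutative square of an irreducible closed subscheme `W` of `X` and
an irreducible closed subscheme `V` of `Y` in which `W` is dense. -/
theorem main_aux {W V : Scheme.{u}} [IrreducibleSpace W] [IrreducibleSpace V] (j : W ⟶ X) [IsClosedImmersion j]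
    (i : V ⟶ Y) [IsClosedImmersion i] (h : W ⟶ V) (hh : h ≫ i = j ≫ f) [IsDominant h] (w : W) :
    Order.coheight (h w) ≤ Order.coheight (f (j w)) ∧
    Order.coheight ((j ≫ f).asFiber w) ≤ Order.coheight (f.asFiber (j w)) ∧
    Order.coheight w ≤ Order.coheight (h w) + Order.coheight ((j ≫ f).asFiber w) ∧
    (Order.coheight w = Order.coheight (h w) + Order.coheight ((j ≫ f).asFiber w) →
      FlatMor.fibreDimAt (j ≫ f) w =
        topologicalKrullDim ↥(Set.range j ∩ f ⁻¹' {i (genericPoint V)})) := by
  have hje : IsEmbedding j := j.isEmbedding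
  have hie : IsEmbedding i := i.isEmbedding
  have : LocallyOfFiniteType (h ≫ i) := by rw [hh]; infer_instance
  have hlft : LocallyOfFiniteType h := locallyOfFiniteType_of_comp h i
  have hNV : IsLocallyNoetherian V := LocallyOfFiniteType.isLocallyNoetherian i
  have hNW : IsLocallyNoetherian W := LocallyOfFiniteType.isLocallyNoetherian h
  have hiw : ∀ t : W, i (h t) = f (j t) := fun t => by
    rw [← Scheme.Hom.comp_apply, hh, Scheme.Hom.comp_apply]
  have hfib : Order.coheight ((j ≫ f).asFiber w) = Order.coheight (h.asFiber w) := by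
    apply le_antisymm
    · refine coheight_asFiber_le (j ≫ f) h id IsEmbedding.id w fun z' hz' => ?_
      apply hie.injective
      change i (h z') = i (h w)
      rw [hiw, hiw]
      exact hz'
    · refine coheight_asFiber_le h (j ≫ f) id IsEmbedding.id w fun z' hz' => ?_
      change (j ≫ f) z' = (j ≫ f) w
      rw [Scheme.Hom.comp_apply, Scheme.Hom.comp_apply, ← hiw, ← hiw, hz']
  refine ⟨?_, ?_, ?_, fun heq => ?_⟩
  · rw [← hiw]
    exact coheight_le_of_isEmbedding hie _
  · exact coheight_asFiber_le (j ≫ f) f j hje w fun z' hz' => hz'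
  · rw [hfib]
    exact Ega4fib.H113.DimFibre.coheight_le_add_fiber h w
  · rw [hfib] at heq
    have h1 := S3390.result h w (by
      rw [ringKrullDim_stalk_eq_coheight, ringKrullDim_stalk_eq_coheight, ringKrullDim_stalk_eq_coheight]
      exact_mod_cast heq)
    have h2 : FlatMor.fibreDimAt (j ≫ f) w = FlatMor.fibreDimAt h w := by
      rw [← hh]
      exact fibreDimAt_comp_of_injective h i hie.injective w
    rw [h2, h1, FlatA.FibreDim.topologicalKrullDim_fiber_eq]
    let e : (h ⁻¹' {genericPoint V} : Set W) → ↥(Set.range j ∩ f ⁻¹' {i (genericPoint V)} : Set X) :=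
      fun t => ⟨j t.1, ⟨t.1, rfl⟩, by
        change f (j t.1) = i (genericPoint V)
        rw [← hiw]
        exact congrArg i t.2⟩
    have he : IsEmbedding e := by
      have h3 : IsEmbedding (fun t : (h ⁻¹' {genericPoint V} : Set W) => j t.1) := hje.comp IsEmbedding.subtypeVal
      exact IsEmbedding.of_comp (by fun_prop) continuous_subtype_val h3
    have hs : Function.Surjective e := by
      rintro ⟨_, ⟨t, rfl⟩, ht⟩
      refine ⟨⟨t, ?_⟩, rfl⟩
      apply hie.injective
      rw [hiw]
      exact ht
    exact IsHomeomorph.topologicalKrullDim_eq e (isHomeomorph_iff_isEmbedding_surjective.mpr ⟨he, hs⟩)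

/-- The numerical content of EGA IV 13.2.7. -/
theorem main (x : X) (X' : Closeds X) (hirr : IsIrreducible (X' : Set X))
    (w : ↥(Scheme.IdealSheafData.vanishingIdeal X').subscheme)
    (hw : (Scheme.IdealSheafData.vanishingIdeal X').subschemeι w = x)
    (v : ↥(Scheme.IdealSheafData.vanishingIdeal
      (⟨closure (f '' (X' : Set X)), isClosed_closure⟩ : Closeds Y)).subscheme)
    (hv : (Scheme.IdealSheafData.vanishingIdeal
      (⟨closure (f '' (X' : Set X)), isClosed_closure⟩ : Closeds Y)).subschemeι v = f x)
    (η' : Y) (hη' : closure ({η'} : Set Y) = closure (f '' (X' : Set X))) :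
    letI ιX := (Scheme.IdealSheafData.vanishingIdeal X').subschemeι
    Order.coheight v ≤ Order.coheight (f x) ∧
    Order.coheight ((ιX ≫ f).asFiber w) ≤ Order.coheight (f.asFiber x) ∧
    Order.coheight w ≤ Order.coheight v + Order.coheight ((ιX ≫ f).asFiber w) ∧
    (Order.coheight w = Order.coheight v + Order.coheight ((ιX ≫ f).asFiber w) →
      FlatMor.fibreDimAt (ιX ≫ f) w = topologicalKrullDim ↥((X' : Set X) ∩ f ⁻¹' {η'})) := by
  have hrX : Set.range (Scheme.IdealSheafData.vanishingIdeal X').subschemeι = (X' : Set X) := by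
    rw [Scheme.IdealSheafData.range_subschemeι]
    exact Scheme.IdealSheafData.coe_support_vanishingIdeal _
  have hrY : Set.range (Scheme.IdealSheafData.vanishingIdeal
      (⟨closure (f '' (X' : Set X)), isClosed_closure⟩ : Closeds Y)).subschemeι =
        closure (f '' (X' : Set X)) := by
    rw [Scheme.IdealSheafData.range_subschemeι]
    exact Scheme.IdealSheafData.coe_support_vanishingIdeal _
  have hred : IsReduced (Scheme.IdealSheafData.vanishingIdeal X').subscheme :=
    Ega1.ReducedSub.isReduced_subscheme_vanishingIdeal X'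
  generalize (Scheme.IdealSheafData.vanishingIdeal
      (⟨closure (f '' (X' : Set X)), isClosed_closure⟩ : Closeds Y)) = J at v hv hrY
  generalize (Scheme.IdealSheafData.vanishingIdeal X') = I at w hw hrX hred
  have hr : Set.range (I.subschemeι ≫ f) = f '' (X' : Set X) := by
    rw [Scheme.Hom.comp_base, TopCat.coe_comp, Set.range_comp, hrX]
  obtain ⟨h, hh⟩ := Ega1.ReducedSub.exists_factor_of_range_subset (I.subschemeι ≫ f) J.subschemeι (by
    rw [hr, hrY]; exact subset_closure)
  have hιYe : IsEmbedding J.subschemeι := J.subschemeι.isEmbedding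
  have hιXe : IsEmbedding I.subschemeι := I.subschemeι.isEmbedding
  have hhv : h w = v := by
    apply hιYe.injective
    rw [hv, ← hw, ← Scheme.Hom.comp_apply, hh]
    rfl
  have : IrreducibleSpace I.subscheme := irreducibleSpace_of_range hιXe (by rw [hrX]; exact hirr)
  have : IrreducibleSpace J.subscheme := irreducibleSpace_of_range hιYe (by
    rw [hrY]; exact (hirr.image _ f.continuous.continuousOn).closure)
  have hιYc : IsClosedEmbedding J.subschemeι := J.subschemeι.isClosedEmbedding
  have hιw : ∀ t, J.subschemeι (h t) = f (I.subschemeι t) := fun t => by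
    rw [← Scheme.Hom.comp_apply, hh, Scheme.Hom.comp_apply]
  have hcl : closure (Set.range h) = Set.univ := by
    have h1 : J.subschemeι '' closure (Set.range h) = J.subschemeι '' Set.univ := by
      rw [← hιYc.closure_image_eq, Set.image_univ, hrY, ← Set.range_comp]
      congr 1
      rw [← hr]
      congr 1
      ext t
      exact hιw t
    exact hιYe.injective.image_injective h1
  have : IsDominant h := ⟨by rw [DenseRange, dense_iff_closure_eq]; exact hcl⟩
  have hη : J.subschemeι (genericPoint J.subscheme) = η' := by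
    have h1 : closure {J.subschemeι (genericPoint J.subscheme)} = closure {η'} := by
      rw [hη', ← hrY, ← Set.image_univ, ← genericPoint_closure J.subscheme, ← hιYc.closure_image_eq,
        Set.image_singleton]
    have h2 : Inseparable (J.subschemeι (genericPoint J.subscheme)) η' := inseparable_iff_closure_eq.mpr h1
    exact h2.eq
  subst hw
  subst hhv
  have := main_aux f I.subschemeι J.subschemeι h hh w
  rw [hη, hrX] at this
  exact this

theorem arith {a a' b' c c' : ℕ∞} (ha : a ≠ ⊤) (hc : c ≠ ⊤) (h1 : a' ≤ a) (h2 : c' ≤ c) (h3 : b' ≤ a' + c')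
    {P : Prop} (h4 : b' = a' + c' → P) :
    ((b' : WithBot ℕ∞) = a + c ↔
      ((a' : WithBot ℕ∞) = a ∧ (c' : WithBot ℕ∞) = c ∧ P ∧ (b' : WithBot ℕ∞) = a' + c')) := by
  have ha' : a' ≠ ⊤ := ne_top_of_le_ne_top ha h1
  have hc' : c' ≠ ⊤ := ne_top_of_le_ne_top hc h2
  have hb' : b' ≠ ⊤ := ne_top_of_le_ne_top (WithTop.add_ne_top.mpr ⟨ha', hc'⟩) h3
  lift a to ℕ using ha
  lift c to ℕ using hc
  lift a' to ℕ using ha'
  lift c' to ℕ using hc'
  lift b' to ℕ using hb'
  norm_cast at h1 h2 h3 h4 ⊢
  constructor
  · intro h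
    have e1 : a' = a := by omega
    have e2 : c' = c := by omega
    exact ⟨e1, e2, h4 (by omega), by omega⟩
  · rintro ⟨e1, e2, -, e3⟩
    omega

end K130.SubDim
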